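import Cfsg.Agent.TH.ExT.Box
import Cfsg.Agent.TH.Ex1.TFb
import Cfsg.Agent.H1.RowExc
import Cfsg.Agent.H42.Deg.Tools
import Cfsg.Agent.H783.EX.Rank
import Cfsg.Agent.S5748

/-!
# S3541, `³D₄(q)` : several simple factors (helper52)

* `Mu.own` : a member of `𝓢` of Lie type in characteristic `p` is a component of `H`;
* `Mu.sixteen` : an elementary abelian subgroup of order `16`;
* `Mu.of_norm` : Lie rank two, characteristic two, Levi subgroups of type `SL₂`: a non-abelian simple subgroup of a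
  `2`-local subgroup is of characteristic two; `Mu.td4`, `Mu.g2`;
* `boxMu`.
-/

set_option autoImplicit false
set_option maxHeartbeats 400000
set_option linter.unusedSectionVars false

namespace Cfsg.Agent.TH.ExT.Mu

open Cfsg Subgroup

section gen

variable {G : Type} [Group G] [Finite G] {T H : Subgroup G} {𝓢 : Set (Subgroup G)}

theorem own (h : Mul T H 𝓢) {S : Subgroup G} (hS : S ∈ 𝓢) {p : ℕ} (h3 : IsLieTypeChar p S) : HasOwn p H := by
  let M : Subgroup G := H ⊓ ⨅ U ∈ 𝓢, normalizer (U : Set G)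
  have h4 : S ≤ M := le_inf ((h.le S hS).trans inf_le_left) (le_iInf₂ fun U hU => by
    by_cases h4 : S = U
    · exact h4 ▸ le_normalizer
    · exact fun x hx => centralizer_le_normalizer _ fun y hy => (h.comm S hS U hU h4 x hx y hy).symm)
  refine Ex1.hasOwn_hom (inclusion (inf_le_left : M ≤ H)) (inclusion_injective _) ?_ (Cl.Cases.hasOwn_of h4
    (fun a ha x hx => (mem_normalizer_iff.1 (mem_iInf.1 (mem_iInf.1 ha.2 S) hS) x).1 hx) (h.simple S hS)
    (h.nonab S hS) h3)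
  rw [inclusion_range]
  refine ⟨fun x hx a => ⟨H.mul_mem (H.mul_mem a.2 hx.1) (H.inv_mem a.2), mem_iInf.2 fun U => mem_iInf.2 fun hU => ?_⟩⟩
  refine mem_normalizer_of_cj_eq ?_
  have h5 := cj_eq_of_mem_normalizer (g := (x : G)) (mem_iInf.1 (mem_iInf.1 hx.2 _) (h.perm _ (H.inv_mem a.2) U hU))
  change cj ((a : G) * x * (a : G)⁻¹) U = U
  rw [cj_mul, cj_mul, h5, cj_cj_inv]

theorem ne_comm {N : Type*} [Group N] (h : ¬ IsMulCommutative N) : ∃ a b : N, a * b ≠ b * a := by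
  by_contra h1
  push Not at h1
  exact h ⟨⟨h1⟩⟩

theorem sixteen (h : Mul T H 𝓢) : ∃ (E : Type) (_ : Group E) (_ : Finite E) (f : E →* T), Function.Injective f ∧
    (∀ x : E, x * x = 1) ∧ Nat.card E = 16 := by
  obtain ⟨S, hS, S', hS', hne⟩ := h.two
  have hT : ∀ S ∈ 𝓢, S ≤ T := fun S hS => (h.le S hS).trans inf_le_right
  obtain ⟨V, h1, h2⟩ := H783.EX.exists_four (h.simple S hS) (ne_comm (h.nonab S hS))
  obtain ⟨V', h1', h2'⟩ := H783.EX.exists_four (h.simple S' hS') (ne_comm (h.nonab S' hS'))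
  refine ⟨V × V', inferInstance, inferInstance, MonoidHom.noncommCoprod ((inclusion (hT S hS)).comp V.subtype)
    ((inclusion (hT S' hS')).comp V'.subtype) fun a b => Subtype.ext (h.comm S hS S' hS' hne _ a.1.2 _ b.1.2), ?_,
    fun x => Prod.ext (Subtype.ext (h1 _ x.1.2)) (Subtype.ext (h1' _ x.2.2)), by rw [Nat.card_prod, h2, h2']⟩
  rw [injective_iff_map_eq_one]
  rintro ⟨a, b⟩ hab
  have h3 : (a.1 : G) * b.1 = 1 := congrArg Subtype.val hab
  have hs := h.simple S hS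
  have h4 : a.1 ∈ center S := mem_center_iff.2 fun x => Subtype.ext (by
    have h5 : (a.1 : G) ∈ S' := by
      rw [eq_inv_of_mul_eq_one_left h3]
      exact inv_mem b.1.2
    exact h.comm S hS S' hS' hne _ x.2 _ h5)
  have h5 : a.1 = 1 := by
    rcases hs.eq_bot_or_eq_top_of_normal (center S) inferInstance with h6 | h6
    · rwa [h6, mem_bot] at h4
    · exact absurd ⟨⟨fun x y => mem_center_iff.1 (h6.ge (mem_top y)) x⟩⟩ (h.nonab S hS)
  rw [h5, OneMemClass.coe_one, one_mul] at h3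
  exact Prod.ext (Subtype.ext h5) (Subtype.ext (Subtype.ext h3))

/-- a member which centralises an involution -/
theorem exists_cent (h : Mul T H 𝓢) : ∃ S ∈ 𝓢, ∃ (hS : S ≤ T) (t : T), t * t = 1 ∧ t ≠ 1 ∧
    ∀ a, inclusion hS a * t = t * inclusion hS a := by
  obtain ⟨S, hS, S', hS', hne⟩ := h.two
  have hT : ∀ S ∈ 𝓢, S ≤ T := fun S hS => (h.le S hS).trans inf_le_right
  have hs := h.simple S' hS'
  obtain ⟨t, h1, h2⟩ := Ex1.exists_inv (G := S') (Ex1.two_dvd fun _ =>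
    h.nonab S' hS' ⟨⟨IsSimpleGroup.comm_iff_isSolvable.2 inferInstance⟩⟩)
  exact ⟨S, hS, hT S hS, ⟨t, hT S' hS' t.2⟩, Subtype.ext (congrArg Subtype.val h1 :),
    fun h3 => h2 (Subtype.ext (congrArg Subtype.val h3 :)), fun a => Subtype.ext (h.comm S hS S' hS' hne a a.2 t t.2)⟩

end gen

theorem lie_of_sl {N : Type} [Group N] [Finite N] [IsSimpleGroup N] (hc : ¬ IsMulCommutative N) {F : Type*} [Field F]
    [CharP F 2] (g : N →* Matrix.SpecialLinearGroup (Fin 2) F) (hg : Function.Injective g) : IsLieTypeChar 2 N := by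
  obtain ⟨F0, i1, i2, n, hn, h1, ⟨e0⟩⟩ := (S5748.result (G := N) hc).1 (S5748.CT.of_injective g hg S5748.SL_CT)
  have hch0 : CharP F0 2 := by
    obtain ⟨p, hp⟩ := CharP.exists F0
    obtain ⟨m, hpp, h2⟩ := FiniteField.card F0 p
    have h3 : 2 ∣ p ^ (m : ℕ) := h2 ▸ h1 ▸ dvd_pow_self 2 (by omega)
    rwa [← (Nat.prime_dvd_prime_iff_eq Nat.prime_two hpp).1 (Nat.prime_two.dvd_of_dvd_pow h3)] at hp
  exact Or.inl ⟨F0, i1, i2, hch0, 2, le_rfl, fun _ => h1 ▸ Nat.pow_le_pow_right two_pos hn, ⟨e0⟩⟩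

section rgd

open CoxeterSystem Cfsg.Agent.ChevalleyStructure.CoxeterGeom Cfsg.Agent.Tits.Roots Cfsg.Agent.Tits.Core
  Cfsg.Agent.Nodes.Reps Cfsg.Agent.Nodes.BNOf Cfsg.Agent.Nodes.Bruhat Cfsg.Agent.Nodes.LeviDec
  Cfsg.Agent.KFacts.RgdBorelTits Cfsg.Agent.KFacts.RgdFilt Cfsg.Agent.H1.RowExc Cfsg.Agent.H1.RgdRow

variable {W : Type*} [Group W] {M : CoxeterMatrix (Fin 2)} {cs : CoxeterSystem M W} {A : Fin 2 → Fin 2 → ℤ}
  {h : IsCartan M A} {Y : Type} [Group Y] {T : Subgroup Y} {n : Fin 2 → Y} {X : (Fin 2 → ℤ) → Subgroup Y}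
  {R : RGD cs h 2 T n X} {Φ : (Fin 2 → ℤ) → ℝ → Subgroup Y}

/-- **simple subgroups of `2`-local subgroups** -/
theorem of_norm [Finite W] [Finite Y] (hF : Filt R Φ) (hG : Nodes.RGDLib.G1 cs h X = ⊤)
    (hT : ∀ a ∈ T, ∀ b ∈ T, a * b = b * a)
    {F : Fin 2 → Type} [∀ i, Field (F i)] [∀ i, Fintype (F i)] [∀ i, CharP (F i) 2]
    (φ : ∀ i, Matrix.SpecialLinearGroup (Fin 2) (F i) →* Y) (hφ : ∀ i, (φ i).range = X (sr i) ⊔ X (-sr i))
    {N : Type} [Group N] [IsSimpleGroup N] (hc : ¬ IsMulCommutative N) (f : N →* Y) (hf : Function.Injective f)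
    {Q : Subgroup Y} (hQ : IsPGroup 2 Q) (hQ1 : Q ≠ ⊥) (hn : ∀ a, f a ∈ normalizer (Q : Set Y)) :
    IsLieTypeChar 2 N := by
  have : Fact (Nat.Prime 2) := ⟨Nat.prime_two⟩
  have := Finite.of_injective f hf
  have hns : ¬ Group.IsSolvable N := fun _ => hc ⟨⟨IsSimpleGroup.comm_iff_isSolvable.2 inferInstance⟩⟩
  obtain ⟨g, J, hJ, -, hN⟩ := borel_tits_of_filt hF hG hQ hQ1
  obtain ⟨i, hi⟩ : ∃ i : Fin 2, J ⊆ {i} := by
    obtain ⟨j, hj⟩ : ∃ j, j ∉ J := not_forall.1 fun h1 => hJ (Set.eq_univ_of_forall h1)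
    refine ⟨1 - j, fun k hk => ?_⟩
    have : k ≠ j := fun h => hj (h ▸ hk)
    fin_cases j <;> fin_cases k <;> first | rfl | exact absurd rfl this
  have h1 : ∀ a, ((MulAut.conj g⁻¹).toMonoidHom.comp f) a ∈ PJ cs h T X {i} := fun a => by
    have h2 := Nodes.Reps.mem_cj.1 (Nodes.Reps.cj_mono g (H851.SimsRgd.PJ_mono R hi) (hN (hn a)))
    simpa using h2
  obtain ⟨π, h2, h3⟩ := H42.Deg.exists_proj (LJ_le_PJ (J := {i})) VJ_le_PJ
    (fun x hx y hy => (mem_normalizer_iff.1 (PJ_le_normalizer_VJ R {i} hx) y).1 hy)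
    (fun x hx hx' => eq_one_of_mem_LJ_of_mem_VJ R hx hx') fun x hx => (mem_PJ R).1 hx
  set f' := ((MulAut.conj g⁻¹).toMonoidHom.comp f).codRestrict _ h1 with hf'
  have h4 : Function.Injective f' := fun a b e => hf ((MulAut.conj g⁻¹).injective (congrArg Subtype.val e))
  have h5 : Function.Injective (π.comp f') := by
    rcases (inferInstance : (π.comp f').ker.Normal).eq_bot_or_eq_top with h5 | h5
    · exact (MonoidHom.ker_eq_bot_iff _).1 h5
    · have h6 : ∀ a, (f' a : Y) ∈ VJ cs h X {i} := fun a => by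
        obtain ⟨l, hl, v, hv, h7⟩ := (mem_PJ R).1 (f' a).2
        have h8 : π (f' a) = 1 := h5.ge (mem_top a)
        rw [show f' a = ⟨l, LJ_le_PJ hl⟩ * ⟨v, VJ_le_PJ hv⟩ from Subtype.ext h7, map_mul, h2 l hl, h3 v hv, mul_one] at h8
        rwa [h7, show l = 1 from congrArg Subtype.val h8, one_mul]
      have h7 := (VJ_isPGroup R {i}).isNilpotent
      exact absurd (Group.isSolvable_of_isSolvable_injective
        (f := ((PJ cs h T X {i}).subtype.comp f').codRestrict _ h6)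
        fun a b e => h4 (Subtype.ext (congrArg Subtype.val e :))) hns
  have h6 : LJ cs h T X {i} = T ⊔ (φ i).range := by rw [LJ_single_le, hφ]
  have h7 : T ≤ normalizer ((φ i).range : Set Y) := hφ i ▸ T_le_normalizer R i
  have h8 : ((φ i).range.subgroupOf (LJ cs h T X {i})).Normal :=
    (normal_subgroupOf_iff_le_normalizer (h6 ▸ le_sup_right)).2 (h6 ▸ sup_le h7 le_normalizer)
  have h9 : commutator (LJ cs h T X {i}) ≤ (φ i).range.subgroupOf (LJ cs h T X {i}) := by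
    have key : ∀ a : LJ cs h T X {i} ⧸ (φ i).range.subgroupOf (LJ cs h T X {i}), ∃ t : LJ cs h T X {i},
        (t : Y) ∈ T ∧ a = t := fun a => by
      obtain ⟨⟨x, hx⟩, rfl⟩ := QuotientGroup.mk_surjective a
      have h10 : x ∈ ((T ⊔ (φ i).range : Subgroup Y) : Set Y) := h6 ▸ hx
      rw [coe_mul_of_left_le_normalizer_right _ _ h7] at h10
      obtain ⟨t, ht, v, hv, rfl⟩ := h10
      exact ⟨⟨t, h6 ▸ mem_sup_left ht⟩, ht, (QuotientGroup.eq.2 (by simpa [mem_subgroupOf] using hv)).symm⟩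
    refine Normal.quotient_commutative_iff_commutator_le.1 ⟨⟨fun a b => ?_⟩⟩
    obtain ⟨s, hs, rfl⟩ := key a
    obtain ⟨t, ht, rfl⟩ := key b
    rw [← QuotientGroup.mk_mul, ← QuotientGroup.mk_mul, show s * t = t * s from Subtype.ext (hT _ hs _ ht)]
  have h10 : ∀ a, ((LJ cs h T X {i}).subtype.comp (π.comp f')) a ∈ (φ i).range := fun a => by
    have h11 : commutator N = ⊤ := ((inferInstance : (commutator N).Normal).eq_bot_or_eq_top).resolve_left fun e =>
      hc ((commutator_eq_bot_iff N).1 e)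
    exact h9 (commutator_mono le_top le_top ((map_commutator ⊤ ⊤ (π.comp f')).le ⟨a, h11.ge (mem_top a), rfl⟩))
  have h11 : Function.Injective (((LJ cs h T X {i}).subtype.comp (π.comp f')).codRestrict _ h10) := fun a b e =>
    h5 (Subtype.ext (congrArg Subtype.val e :))
  by_cases h12 : 4 ≤ Fintype.card (F i)
  · have := simple_sl (F i) h12
    rcases (inferInstance : (φ i).ker.Normal).eq_bot_or_eq_top with h13 | h13
    · let e := (MonoidHom.ofInjective ((MonoidHom.ker_eq_bot_iff _).1 h13)).symm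
      exact lie_of_sl hc (e.toMonoidHom.comp _) (e.injective.comp h11)
    · refine absurd ⟨⟨fun a b => h11 (Subtype.ext ?_)⟩⟩ hc
      obtain ⟨x, hx⟩ := h10 (a * b)
      obtain ⟨y, hy⟩ := h10 (b * a)
      exact hx.symm.trans (((h13.ge (mem_top x)).trans (h13.ge (mem_top y)).symm).trans hy)
  · have := solvable_sl (F i) (not_le.1 h12)
    have := Group.isSolvable_of_surjective (f := (φ i).rangeRestrict) (φ i).rangeRestrict_surjective
    exact absurd (Group.isSolvable_of_isSolvable_injective h11) hns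

end rgd

open Cfsg.Lie Cfsg.Agent.ChevalleyStructure Cfsg.Agent.Nodes.RGDFoldSL Cfsg.Agent.BiChar in
/-- `³D₄(q)`, `q` even -/
theorem td4 {K : Type} [Field K] [Fintype K] [CharP K 2] {q : ℕ} (hq : IsPrimePow q) (hK : Fintype.card K = q ^ 3)
    {N : Type} [Group N] [IsSimpleGroup N] (hc : ¬ IsMulCommutative N) (f : N →* ↥(twistedD4 K q))
    (hf : Function.Injective f) {Q : Subgroup ↥(twistedD4 K q)} (hQ : IsPGroup 2 Q) (hQ1 : Q ≠ ⊥)
    (hn : ∀ a, f a ∈ normalizer (Q : Set ↥(twistedD4 K q))) : IsLieTypeChar 2 N := by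
  obtain ⟨φ, hφ⟩ := D4Fixed.exists_frob hq hK
  have hle := D4Fixed.twisted_le_fix hK hφ
  have : Finite CoxeterMatrix.G₂.Group := Nodes.RGDChev.finite_W GTwo.isType TwDFour.cs
  have hch : ∀ i : Fin 2, CharP (Fx φ ((Nodes.RGDTwNode.D4.rest i).length + 1)) 2 := fun i =>
    (RingHom.charP_iff _ (Fx φ ((Nodes.RGDTwNode.D4.rest i).length + 1)).subtype.injective 2).2 inferInstance
  let hft : ∀ i : Fin 2, Fintype (Fx φ ((Nodes.RGDTwNode.D4.rest i).length + 1)) := fun i => Fintype.ofFinite _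
  refine of_norm (F := fun i => Fx φ ((Nodes.RGDTwNode.D4.rest i).length + 1))
    (KFacts.RgdFiltTwAll.filt_fold TwDFour.cs Nodes.RGDTwD4.isCartan Nodes.RGDTwD4.foldData
      (Nodes.RGDTwD4.foldGrp hφ hle) 2) (Nodes.RGDTwD4.G1_eq_top TwDFour.cs hK hφ) (fun x hx y hy => ?_)
    (fun i => TwDFour.Ph hφ hle i) (fun i => TwDFour.range_Ph hφ hle hK i) hc f hf hQ hQ1 hn
  exact Subtype.ext (HDiag.mul_comm_of_mem chevD4 (by simp) (mem_inf.1 (mem_subgroupOf.1 hx)).1
    (mem_inf.1 (mem_subgroupOf.1 hy)).1)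

open Cfsg.Lie Cfsg.Agent.ChevalleyStructure Cfsg.Agent.BiChar Cfsg.Agent.Nodes.RGDChev in
/-- `G₂(q)`, `q` even -/
theorem g2 {K : Type} [Field K] [Fintype K] [CharP K 2]
    {N : Type} [Group N] [IsSimpleGroup N] (hc : ¬ IsMulCommutative N) (f : N →* ↥(chevG2.group K))
    (hf : Function.Injective f) {Q : Subgroup ↥(chevG2.group K)} (hQ : IsPGroup 2 Q) (hQ1 : Q ≠ ⊥)
    (hn : ∀ a, f a ∈ normalizer (Q : Set ↥(chevG2.group K))) : IsLieTypeChar 2 N := by
  have : Finite CoxeterMatrix.G₂.Group := finite_W GTwo.isType CoxeterMatrix.G₂.toCoxeterSystem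
  choose φ hφ using H1.RowExc.range_chev (K := K)
  exact of_norm (F := fun _ => K) (KFacts.RgdFiltChev.filt (K := K) GTwo.isType CoxeterMatrix.G₂.toCoxeterSystem 2)
    (G1_eq_top GTwo.isType CoxeterMatrix.G₂.toCoxeterSystem) (fun x hx y hy => Subtype.ext
      (HDiag.mul_comm_of_mem chevG2 (by simp) (mem_subgroupOf.1 hx) (mem_subgroupOf.1 hy))) φ hφ hc f hf hQ hQ1 hn

theorem zp_data {K : Type*} [Group K] {t : K} (h1 : t * t = 1) (h2 : t ≠ 1) :
    IsPGroup 2 (zpowers t) ∧ zpowers t ≠ ⊥ ∧ ∀ a, a * t = t * a → a ∈ normalizer ((zpowers t : Subgroup K) : Set K) := by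
  refine ⟨?_, fun h => h2 (zpowers_eq_bot.1 h), fun a ha => centralizer_le_normalizer _ (mem_centralizer_iff.2 ?_)⟩
  · rintro ⟨_, n, rfl⟩
    exact ⟨1, Subtype.ext (by
      show (t ^ n) ^ 2 ^ 1 = 1
      rw [pow_one, ← zpow_natCast, ← zpow_mul, mul_comm, zpow_mul, zpow_natCast, sq, h1, one_zpow])⟩
  · rintro _ ⟨n, rfl⟩
    exact ((show Commute a t from ha).zpow_right n).eq.symm

end Cfsg.Agent.TH.ExT.Mu

namespace Cfsg.Agent.TH.ExT

open Cfsg Subgroup Mu

/-- **several simple factors** -/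
theorem boxMu : BoxMu := by
  intro G _ _ T H 𝓢 m p f K _ _ φ c _ h
  have := c.char
  by_cases hp : p = 2
  · subst hp
    obtain ⟨S, hS, hT, t, h1, h2, h3⟩ := exists_cent h
    have := h.simple S hS
    obtain ⟨h4, h5, h6⟩ := zp_data (t := c.iso.symm t) (by rw [← map_mul, h1, map_one])
      fun e => h2 (c.iso.symm.map_eq_one_iff.1 e)
    exact c.nown (own h hS (td4 c.ipp c.cardK (h.nonab S hS) (c.iso.symm.toMonoidHom.comp (inclusion hT))
      (c.iso.symm.injective.comp (inclusion_injective hT)) h4 h5 fun a => h6 _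
        ((map_mul c.iso.symm _ t).symm.trans ((congrArg c.iso.symm (h3 a)).trans (map_mul c.iso.symm t _)))))
  · obtain ⟨E, _, _, g, h1, h2, h3⟩ := sixteen h
    have h4 := H783.EX.td4_card_le (c.prime.odd_of_ne_two hp).pow c.cardK (SB.Low.TwoL.two_ne_zero_of p hp) h2
      (c.iso.symm.toMonoidHom.comp g) (c.iso.symm.injective.comp h1)
    omega

end Cfsg.Agent.TH.ExT
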