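import Cfsg.Agent.TH.ExT.Pre
import Cfsg.Agent.TH.ExT.Si

/-!
# S3541, `³D₄(q)` : the box (helper57)
-/

set_option autoImplicit false

namespace Cfsg.Agent.TH

theorem box3D4 : Box3D4 := ExT.box3D4_si ExT.boxSi

end Cfsg.Agent.TH
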