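import Cfsg.Agent.TH.ExT.Dat

/-!
# S3541, `³D₄(q)` : the three cases (helper57)
-/

set_option autoImplicit false

namespace Cfsg.Agent.TH.ExT

open Cfsg Cfsg.Lie

/-- the local case -/
def BoxAb : Prop := ∀ (G : Type) [Group G] [Finite G] (T H E : Subgroup G) (m p f r : ℕ) (K : Type) [Field K] [Fintype K]
  (φ : ↥(twistedD4 K (p ^ f)) →* G), Cx T H m p f K φ → ¬ HasBN p H → DS.Loc T H E r → r ≠ p → False

/-- the almost simple case -/
def BoxSi : Prop := ∀ (G : Type) [Group G] [Finite G] (T H N : Subgroup G) (m p f : ℕ) (K : Type) [Field K] [Fintype K]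
  (φ : ↥(twistedD4 K (p ^ f)) →* G), Cx T H m p f K φ → ¬ HasBN p H → Sim T H N → False

/-- the case of several simple factors -/
def BoxMu : Prop := ∀ (G : Type) [Group G] [Finite G] (T H : Subgroup G) (𝓢 : Set (Subgroup G)) (m p f : ℕ) (K : Type)
  [Field K] [Fintype K] (φ : ↥(twistedD4 K (p ^ f)) →* G), Cx T H m p f K φ → ¬ HasBN p H → Mul T H 𝓢 → False

theorem box3D4_of (hB : BoxBN) (h1 : BoxAb) (h2 : BoxSi) (h3 : BoxMu) : Box3D4 := by
  intro hK G _ _ T H m p c ho hP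
  obtain ⟨f, K, _, _, φ, cx⟩ := exists_cx hK c ho hP
  have hb := hB hK G T H m p c
  rcases boxTri G T H m c.as c.half with ⟨E, r, h⟩ | ⟨N, h⟩ | ⟨𝓢, h⟩
  · exact h1 G T H E m p f r K φ cx hb h (c.ne_of_loc h)
  · exact h2 G T H N m p f K φ cx hb h
  · exact h3 G T H 𝓢 m p f K φ cx hb h

end Cfsg.Agent.TH.ExT
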