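import Cfsg.Agent.TH.ExT.Par
import Cfsg.Agent.TH.Sv.Lin2
import Cfsg.Agent.TH.Sv.TriE
import Cfsg.Agent.SB.Low.Model
import Cfsg.Agent.SB.Low.Two
import Cfsg.Agent.SB.Low.NS
import Cfsg.Agent.SB.Low.Ext
import Cfsg.Agent.SB.Low.TabD
import Cfsg.Agent.SB.Low.D42C
import Cfsg.Agent.H172.S3Tw
import Cfsg.Agent.H448.FprExc.RowD4
import Cfsg.Agent.H872.TD4.Inst
import Cfsg.Agent.H523.FpfCycFam
import Cfsg.Agent.H384.AsOut
import Cfsg.Agent.S2129

/-!
# S3541, `³D₄(q)` : the data of the socle (helper57)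

`Cx T H m p f K φ` : `φ` identifies the socle `T` with `³D₄(q)`, `q = p ^ f`.
-/

set_option autoImplicit false
set_option linter.unusedSectionVars false

namespace Cfsg.Agent.TH.ExT

open Subgroup Cfsg Cfsg.Lie Cfsg.Agent.SB.Low

/-- the least index of a parabolic subgroup -/
def cP (q : ℕ) : ℕ := (q + 1) * (q ^ 8 + q ^ 4 + 1)

/-- the least size of a class of semisimple elements, `q ≥ 3` -/
def cS (q : ℕ) : ℕ := q ^ 8 * (q ^ 8 + q ^ 4 + 1)

/-- the order of `³D₄(q)` -/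
def ord (q : ℕ) : ℕ := q ^ 12 * (q ^ 2 - 1) * (q ^ 6 - 1) * (q ^ 8 + q ^ 4 + 1)

theorem pow_le_cP (q : ℕ) : q ^ 9 ≤ cP q := by
  unfold cP
  nlinarith [Nat.zero_le (q ^ 8), Nat.zero_le (q ^ 4), Nat.zero_le (q * q ^ 4), pow_succ' q 8]

/-! ### facts on the model -/

section Model

variable {K : Type} [Field K] [Fintype K] {q : ℕ}

theorem cc_inv (p : ℕ) [CharP K p] (hp : p ≠ 2) (hK : Fintype.card K = q ^ 3) {z : ↥(twistedD4 K q)} (hz : orderOf z = 2) :
    cc z = q ^ 4 * (q ^ 2 - 1) * (q ^ 6 - 1) := by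
  have h2 := TwoL.two_ne_zero_of (F := K) p hp
  obtain ⟨σ, hσ, ⟨c⟩⟩ := Cit.HexD4.exists_d4 hK
  have hq1 : 1 < q := by
    have h1 := Fintype.one_lt_card (α := K)
    rw [hK] at h1
    exact (Nat.one_lt_pow_iff (by norm_num)).1 h1
  have h3 : Nat.card ↥(Cit.HexBase.fx σ) = q := by
    rw [← ChevalleyStructure.FixedCard.card_fixed hq1 hK]
    exact Nat.card_congr (Equiv.subtypeEquivRight fun x => by rw [Cit.HexBase.mem_fx, hσ])
  obtain ⟨α, hα⟩ := TwoL.exists_aut c h2 (t := z) (by rw [← sq, ← hz, pow_orderOf_eq_one])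
    (fun h => by rw [h, orderOf_one] at hz; omega)
  have h4 : cc z = cc c.z := le_antisymm
    (TwoL.card_le_of_aut α fun x hx => mem_centralizer_singleton_iff.2 (by
      rw [← hα, ← map_mul, ← map_mul, mem_centralizer_singleton_iff.1 hx]))
    (TwoL.card_le_of_aut α⁻¹ fun x hx => mem_centralizer_singleton_iff.2 (α.injective (by
      simpa [hα] using mem_centralizer_singleton_iff.1 hx)))
  rw [h4, cc, H625.IFx.card_CZ c h2, TwoL.card_sl2_nat, TwoL.card_sl2_nat, h3, Nat.card_eq_fintype_card, hK, ← pow_mul]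
  ring

theorem c6_le {q : ℕ} (h : 3 ≤ q) : q ^ 6 * (q + 1) ^ 4 ≤ q ^ 4 * (q ^ 2 - 1) * (q ^ 6 - 1) := by
  obtain ⟨y, rfl⟩ := Nat.exists_eq_add_of_le' h
  have e2 : (y + 3) ^ 2 - 1 = (y + 2) * (y + 3 + 1) := Nat.sub_eq_of_eq_add (by ring)
  have e3 : (y + 3) ^ 6 - 1 = (y + 2) * (y + 3 + 1) * ((y + 3) ^ 4 + (y + 3) ^ 2 + 1) := Nat.sub_eq_of_eq_add (by ring)
  have h1 : (y + 3) ^ 2 * (y + 3 + 1) ^ 2 ≤ (y + 2) ^ 2 * ((y + 3) ^ 4 + (y + 3) ^ 2 + 1) := by
    ring_nf
    nlinarith [Nat.zero_le y, Nat.zero_le (y ^ 2), Nat.zero_le (y ^ 3), Nat.zero_le (y ^ 4), Nat.zero_le (y ^ 5),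
      Nat.zero_le (y ^ 6)]
  rw [e2, e3]
  calc _ = (y + 3) ^ 4 * (y + 3 + 1) ^ 2 * ((y + 3) ^ 2 * (y + 3 + 1) ^ 2) := by ring
    _ ≤ (y + 3) ^ 4 * (y + 3 + 1) ^ 2 * ((y + 2) ^ 2 * ((y + 3) ^ 4 + (y + 3) ^ 2 + 1)) := by gcongr
    _ = _ := by ring

/-- a power of prime order -/
theorem exists_prime_pow {X : Type} [Group X] [Finite X] {x : X} (hx : x ≠ 1) :
    ∃ y : X, (orderOf y).Prime ∧ orderOf y ∣ orderOf x ∧ cc x ≤ cc y := by
  obtain ⟨s, hs, k, hk⟩ := Nat.exists_prime_and_dvd (mt orderOf_eq_one_iff.1 hx)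
  have h0 : 0 < k := Nat.pos_of_mul_pos_left (hk ▸ orderOf_pos x)
  have h1 : orderOf (x ^ k) = s := by
    rw [orderOf_pow' _ h0.ne', hk, Nat.gcd_mul_left_left, Nat.mul_div_cancel _ h0]
  refine ⟨x ^ k, h1 ▸ hs, h1 ▸ ⟨k, hk⟩, card_le_of_le fun g hg => mem_centralizer_singleton_iff.2 ?_⟩
  exact ((show Commute g x from mem_centralizer_singleton_iff.1 hg).pow_right k).eq

theorem cc_ss (p : ℕ) [Fact p.Prime] [CharP K p] (hq : IsPrimePow q) (hK : Fintype.card K = q ^ 3) (h3 : 3 ≤ q)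
    {x : ↥(twistedD4 K q)} (hx : x ≠ 1) (hp : ¬ p ∣ orderOf x) : cc x ≤ q ^ 4 * (q ^ 2 - 1) * (q ^ 6 - 1) := by
  obtain ⟨y, h1, h2, h4⟩ := exists_prime_pow hx
  have h5 : orderOf y ≠ p := fun e => hp (e ▸ h2)
  refine h4.trans ?_
  by_cases h6 : orderOf y = 2
  · exact (cc_inv p (fun e => h5 (h6.trans e.symm)) hK h6).le
  · exact ((oddD boxNS boxExt boxTabD p K hq hK).c6 y h1 h6 h5).trans (c6_le h3)

theorem cc_two (hK : Fintype.card K = 8) {x : ↥(twistedD4 K 2)} (hx : x ≠ 1) (hp : ¬ 2 ∣ orderOf x) : cc x ≤ 1512 := by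
  obtain ⟨y, h1, h2, h4⟩ := exists_prime_pow hx
  exact h4.trans (boxC42 K hK y h1 fun e => hp (by rwa [e] at h2))

end Model

/-! ### the context -/

/-- the standing hypotheses -/
structure Cx {G : Type} [Group G] (T H : Subgroup G) (m p f : ℕ) (K : Type) [Field K] [Fintype K]
    (φ : ↥(twistedD4 K (p ^ f)) →* G) : Prop extends LieCtx T H m p where
  allK : AllK
  nown : ¬ HasOwn p H
  char : CharP K p
  f_pos : 0 < f
  cardK : Fintype.card K = (p ^ f) ^ 3
  inj : Function.Injective φ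
  range : φ.range = T

theorem exists_cx {G : Type} [Group G] {T H : Subgroup G} {m p : ℕ} (hK : AllK) (c : LieCtx T H m p) (ho : ¬ HasOwn p H)
    (h : ∃ (K : Type) (_ : Field K) (_ : Fintype K) (_ : CharP K p) (q : ℕ), IsPrimePow q ∧
      Fintype.card K = q ^ 3 ∧ Nonempty (T ≃* twistedD4 K q)) :
    ∃ (f : ℕ) (K : Type) (_ : Field K) (_ : Fintype K) (φ : ↥(twistedD4 K (p ^ f)) →* G), Cx T H m p f K φ := by
  obtain ⟨K, i1, i2, i3, q, hq, hc, ⟨e⟩⟩ := h
  obtain ⟨s, f, hs, hf, rfl⟩ := (isPrimePow_nat_iff q).1 hq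
  obtain ⟨n, -, hn⟩ := FiniteField.card K p
  obtain rfl : s = p := by
    have h1 : s ∣ p ^ (n : ℕ) := by
      rw [← hn, hc]
      exact dvd_pow (dvd_pow_self s hf.ne') (by norm_num)
    exact (Nat.prime_dvd_prime_iff_eq hs c.prime).1 (hs.dvd_of_dvd_pow h1)
  refine ⟨f, K, i1, i2, T.subtype.comp e.symm.toMonoidHom, c, hK, ho, i3, hf, hc,
    T.subtype_injective.comp e.symm.injective, ?_⟩
  rw [MonoidHom.range_comp, MonoidHom.range_eq_top.2 e.symm.surjective, ← MonoidHom.range_eq_map, range_subtype]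

namespace Cx

variable {G : Type} [Group G] [Finite G] {T H : Subgroup G} {m p f : ℕ} {K : Type} [Field K] [Fintype K]
  {φ : ↥(twistedD4 K (p ^ f)) →* G} (c : Cx T H m p f K φ)

include c

theorem ipp : IsPrimePow (p ^ f) := c.prime.isPrimePow.pow c.f_pos.ne'

theorem two_le : 2 ≤ p ^ f := c.ipp.two_le

theorem p_dvd : p ∣ p ^ f := dvd_pow_self p c.f_pos.ne'

theorem f_lt : f < p ^ f := Nat.lt_pow_self c.prime.one_lt

theorem mem_T (x : ↥(twistedD4 K (p ^ f))) : φ x ∈ T := c.range ▸ ⟨x, rfl⟩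

theorem exists_eq {t : G} (ht : t ∈ T) : ∃ x, φ x = t := by rwa [← c.range] at ht

/-- the identification -/
noncomputable def iso : ↥(twistedD4 K (p ^ f)) ≃* T := (MonoidHom.ofInjective c.inj).trans (MulEquiv.subgroupCongr c.range)

theorem iso_apply (x : ↥(twistedD4 K (p ^ f))) : (c.iso x : G) = φ x := rfl

theorem simple : IsSimpleGroup ↥(twistedD4 K (p ^ f)) := (S1071.result c.ipp c.cardK).1

theorem card_T : Nat.card T = ord (p ^ f) := by
  rw [← Nat.card_congr c.iso.toEquiv, S1067.result c.ipp c.cardK, ord]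

theorem relIndex_T (Y : Subgroup G) : Y.relIndex T = (Y.comap φ).index := by rw [index_comap, c.range]

theorem map_comap (Y : Subgroup G) : (Y.comap φ).map φ = Y ⊓ T := by rw [map_comap_eq, c.range, inf_comm]

theorem card_inf (Y : Subgroup G) : Nat.card ↥(Y ⊓ T) = Nat.card (Y.comap φ) := by
  rw [← c.map_comap, card_map_of_injective c.inj]

/-- `Y ⊓ T` and its preimage -/
noncomputable def isoInf (Y : Subgroup G) : ↥(Y.comap φ) ≃* ↥(Y ⊓ T) :=
  ((Y.comap φ).equivMapOfInjective φ c.inj).trans (MulEquiv.subgroupCongr (c.map_comap Y))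

theorem comap_cent (x : ↥(twistedD4 K (p ^ f))) : (centralizer {φ x}).comap φ = centralizer {x} := by
  ext y
  rw [mem_comap, mem_centralizer_singleton_iff, mem_centralizer_singleton_iff, ← map_mul, ← map_mul, c.inj.eq_iff]

theorem comap_norm {Y : Subgroup G} (h : Y ≤ T) :
    (normalizer (Y : Set G)).comap φ = normalizer (Y.comap φ : Set ↥(twistedD4 K (p ^ f))) := by
  ext y
  rw [mem_comap, mem_normalizer_iff, mem_normalizer_iff]
  refine ⟨fun h1 x => by rw [mem_comap, mem_comap, map_mul, map_mul, map_inv]; exact h1 _, fun h1 x => ?_⟩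
  have hn := c.as.normal
  constructor
  · intro hx
    obtain ⟨z, rfl⟩ := c.exists_eq (h hx)
    simpa using (h1 z).1 hx
  · intro hx
    have h2 : x ∈ T := by simpa [mul_assoc] using hn.conj_mem _ (h hx) (φ y)⁻¹
    obtain ⟨z, rfl⟩ := c.exists_eq h2
    exact (h1 z).2 (by simpa using hx)

theorem comap_ne_bot {Y : Subgroup G} (h : Y ⊓ T ≠ ⊥) : Y.comap φ ≠ ⊥ := fun e => h (by
  rw [← c.map_comap, e, Subgroup.map_bot])

theorem conj_inj : Function.Injective (haveI := c.as.normal; (MulAut.conjNormal : G →* MulAut T)) := by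
  have := c.as.normal
  rw [injective_iff_map_eq_one]
  intro g hg
  have h2 : g ∈ centralizer (T : Set G) := fun t ht => by
    have h3 := congrArg (fun σ : MulAut T => ((σ ⟨t, ht⟩ : T) : G)) hg
    simp only [MulAut.conjNormal_apply, MulAut.one_apply] at h3
    exact (mul_inv_eq_iff_eq_mul.1 h3).symm
  rwa [c.as.cent] at h2

theorem index_dvd : T.index ∣ 3 * f := by
  have := c.as.normal
  have := Fact.mk c.prime
  have := c.char
  have h1 : Nat.card G ∣ Nat.card (MulAut T) := card_dvd_of_injective _ c.conj_inj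
  rw [← Nat.card_congr (MulAut.congr c.iso).toEquiv,
    H384.TwoTrans.AS.card_mulAut (H69.OutTwD4.center_eq_bot c.ipp c.cardK),
    S2129.result p f (by rw [c.cardK, ← pow_mul, mul_comm]) c.f_pos, Nat.card_congr c.iso.toEquiv,
    ← T.index_mul_card] at h1
  exact Nat.dvd_of_mul_dvd_mul_right Nat.card_pos h1

/-- complements are cyclic -/
theorem gen1 (L : Subgroup G) (h : L ⊓ T = ⊥) : ∃ s : Fin 1 → G, closure (Set.range s) = L := by
  have := c.as.normal
  have := Fact.mk c.prime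
  have := c.char
  have h1 := ((H523.TwD4.cycOut c.ipp c.cardK p).congr c.iso).isCyclic
    (A := L.map (MulAut.conjNormal : G →* MulAut T)) (by
      rintro _ ⟨g, hg, rfl⟩ ⟨t, ht⟩
      have h2 : g = t := c.conj_inj (ht.trans (by ext; simp))
      have h3 : g ∈ L ⊓ T := ⟨hg, h2 ▸ t.2⟩
      rw [h, mem_bot] at h3
      rw [h3, map_one])
  have h2 : IsCyclic L := (L.equivMapOfInjective _ c.conj_inj).isCyclic.2 h1
  obtain ⟨g, hg⟩ := (isCyclic_iff_exists_zpowers_eq_top.1 h2)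
  refine ⟨fun _ => g, ?_⟩
  rw [Set.range_const, ← zpowers_eq_closure]
  exact (MonoidHom.map_zpowers L.subtype g).symm.trans (by rw [hg, ← MonoidHom.range_eq_map, range_subtype])

/-- classes of automorphisms -/
theorem cls9 {x : G} (hx : x ≠ 1) : (p ^ f) ^ 9 ≤ (centralizer {x}).relIndex T := by
  have := c.as.normal
  have := c.simple
  have h1 := H172.S3.index_3D4 c.ipp c.cardK ((MulAut.congr c.iso).symm (MulAut.conjNormal x)) (by
    rw [Ne, map_eq_one_iff _ (MulEquiv.injective _), map_eq_one_iff _ c.conj_inj]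
    exact hx)
  rw [c.relIndex_T]
  convert h1 using 2
  ext y
  rw [mem_comap, mem_centralizer_singleton_iff]
  show _ ↔ c.iso.symm (MulAut.conjNormal x (c.iso y)) = y
  rw [MulEquiv.symm_apply_eq, Subtype.ext_iff, MulAut.conjNormal_apply, c.iso_apply, mul_inv_eq_iff_eq_mul, eq_comm]

theorem idx5 {M : Subgroup G} (h : ¬ T ≤ M) : (p ^ f) ^ 5 ≤ M.relIndex T := by
  rw [c.relIndex_T]
  exact H448.FprExc.index_3D4 c.ipp c.cardK _ fun e => h (by rw [← c.range, MonoidHom.range_eq_map, map_le_iff_le_comap, e])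

theorem idx_H : (p ^ f) ^ 5 ≤ H.index := c.as.relIndex_eq c.half ▸ c.idx5 (c.as.not_le c.half)

/-- normalisers of unipotent subgroups -/
theorem par {P : Subgroup G} (h : P ≤ T) (h0 : P ≠ ⊥) (hP : IsPGroup p P) :
    cP (p ^ f) ≤ (normalizer (P : Set G)).relIndex T := by
  have := Fact.mk c.prime
  have := c.char
  rw [c.relIndex_T, c.comap_norm h]
  exact par_le c.ipp c.cardK rfl c.f_pos.ne' (hP.comap_of_injective φ c.inj)
    (c.comap_ne_bot (by rwa [inf_eq_left.2 h]))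

/-- normalisers of `p`-subgroups -/
theorem par9 {P : Subgroup G} (h0 : P ≠ ⊥) (hP : IsPGroup p P) : (p ^ f) ^ 9 ≤ (normalizer (P : Set G)).relIndex T := by
  have hn := c.as.normal
  have fin : ∀ Y : Subgroup G, Y.relIndex T ≠ 0 := fun Y => index_ne_zero_of_finite
  by_cases h1 : P ⊓ T = ⊥
  · obtain ⟨x, hx, hx1⟩ := (bot_or_exists_ne_one P).resolve_left h0
    refine (c.cls9 hx1).trans ?_
    rw [← inf_relIndex_right (normalizer _)]
    refine relIndex_le_of_le_left (fun t ht => mem_centralizer_singleton_iff.2 ?_) (fin _)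
    replace ht := mem_inf.1 ht
    have h3 : t * x * t⁻¹ * x⁻¹ ∈ P ⊓ T := mem_inf.2 ⟨P.mul_mem ((mem_normalizer_iff.1 ht.1 x).1 hx) (P.inv_mem hx), by
      have := T.mul_mem ht.2 (hn.conj_mem _ (T.inv_mem ht.2) x)
      simpa [mul_assoc] using this⟩
    rw [h1, mem_bot, mul_inv_eq_one, mul_inv_eq_iff_eq_mul] at h3
    exact h3
  · refine ((pow_le_cP _).trans (c.par inf_le_right h1 (hP.to_le inf_le_left))).trans
      (relIndex_le_of_le_left (fun t ht => mem_normalizer_iff.2 fun x => ?_) (fin _))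
    exact and_congr (mem_normalizer_iff.1 ht x) ⟨fun h => hn.conj_mem _ h t, fun h => by simpa [mul_assoc] using hn.conj_mem _ h t⁻¹⟩

theorem cls_mul (x : ↥(twistedD4 K (p ^ f))) : (centralizer {φ x}).relIndex T * cc x = ord (p ^ f) := by
  rw [c.relIndex_T, c.comap_cent, cc, index_mul_card, S1067.result c.ipp c.cardK, ord]

/-- classes of semisimple elements -/
theorem ss (h3 : 3 ≤ p ^ f) {x : G} (hx : x ∈ T) (h1 : x ≠ 1) (hp : ¬ p ∣ orderOf x) :
    cS (p ^ f) ≤ (centralizer {x}).relIndex T := by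
  have := Fact.mk c.prime
  have := c.char
  obtain ⟨y, rfl⟩ := c.exists_eq hx
  have h2 := cc_ss p c.ipp c.cardK h3 (x := y) (fun e => h1 (by rw [e, map_one])) (by rwa [orderOf_injective φ c.inj] at hp)
  have h4 := c.cls_mul y
  by_contra h5
  have h6 := Nat.mul_lt_mul_of_lt_of_le' (not_le.1 h5) h2 Nat.card_pos
  rw [h4] at h6
  exact h6.ne (by unfold ord cS; ring)

end Cx

/-- classes of elements of odd order in `³D₄(2)` -/
theorem Cx.ss2 {G : Type} [Group G] [Finite G] {T H : Subgroup G} {m : ℕ} {K : Type} [Field K] [Fintype K]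
    {φ : ↥(twistedD4 K (2 ^ 1)) →* G} (c : Cx T H m 2 1 K φ) {x : G} (hx : x ∈ T) (h1 : x ≠ 1) (hp : ¬ 2 ∣ orderOf x) :
    139776 ≤ (centralizer {x}).relIndex T := by
  obtain ⟨y, rfl⟩ := c.exists_eq hx
  have h2 : cc y ≤ 1512 := cc_two c.cardK (x := y) (fun e => h1 (by rw [show y = 1 from e, map_one]))
    (by rwa [orderOf_injective φ c.inj] at hp)
  have h4 := c.cls_mul y
  by_contra h5
  have h6 := Nat.mul_lt_mul_of_lt_of_le' (not_le.1 h5) h2 Nat.card_pos
  rw [h4] at h6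
  exact h6.ne (by decide)

theorem Cx.idx224 {G : Type} [Group G] [Finite G] {T H : Subgroup G} {m : ℕ} {K : Type} [Field K] [Fintype K]
    {φ : ↥(twistedD4 K (2 ^ 1)) →* G} (c : Cx T H m 2 1 K φ) {M : Subgroup G} (h : ¬ T ≤ M) : 224 ≤ M.relIndex T := by
  rw [c.relIndex_T]
  exact H872.TD4.Inst.index_ge c.cardK _ fun e => h (by
    rw [← c.range, MonoidHom.range_eq_map, map_le_iff_le_comap]; exact e.ge)

end Cfsg.Agent.TH.ExT
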