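import Cfsg.Agent.TH.ExT.Nu
import Cfsg.Agent.TH.ExT.Tab
import Cfsg.Agent.SB.Low.Model
import Cfsg.Agent.SB.Low.NS
import Cfsg.Agent.SB.Low.Ext
import Cfsg.Agent.SB.Exc.Max.Ext

/-!
# S3541, `³D₄(q)` : normalisers of elementary abelian subgroups of odd order (helper57)
-/

set_option autoImplicit false
set_option linter.unusedSectionVars false

namespace Cfsg.Agent.TH.ExT

open Subgroup Cfsg CoxeterSystem Cfsg.Agent.H786.FC
open Cfsg.Agent.ChevalleyStructure.CoxeterGeom Cfsg.Agent.Tits.Roots Cfsg.Agent.Nodes.Reps Cfsg.Agent.Nodes.BNOf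
  Cfsg.Agent.Nodes.Coroot Cfsg.Agent.DL Cfsg.Agent.SB.Exc Cfsg.Agent.SB.Low Cfsg.Agent.SB.Exc.Max
  Cfsg.Agent.DL.Base Cfsg.Agent.BpExc.Zc
open scoped commutatorElement

section Grp

variable {K : Type} [Group K]

theorem solv3 (L C S : Subgroup K) (h1 : ∀ x ∈ L, ∀ y ∈ L, ⁅x, y⁆ ∈ C) (h2 : ∀ x ∈ C, ∀ y ∈ C, ⁅x, y⁆ ∈ S)
    (h3 : ∀ x ∈ S, ∀ y ∈ L, x * y = y * x) : Group.IsSolvable L := by
  have e1 : derivedSeries L 1 ≤ C.subgroupOf L := commutator_le.2 fun x _ y _ => h1 x x.2 y y.2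
  have e2 : derivedSeries L 2 ≤ S.subgroupOf L := commutator_le.2 fun x hx y hy => h2 x (e1 hx) y (e1 hy)
  exact ⟨3, eq_bot_iff.2 (commutator_le.2 fun x hx y _ =>
    commutatorElement_eq_one_iff_mul_comm.2 (Subtype.ext (h3 x (e2 hx) y y.2)))⟩

/-- the squares of the `2`-elements -/
def Sq (C : Subgroup K) : Set K := {z | ∃ y ∈ C, (∃ j, y ^ 2 ^ j = 1) ∧ y ^ 2 = z}

theorem sq_le [Finite K] (P : Sylow 2 K) (Z : Set K) (h : ∀ y ∈ P, y ^ 2 ∈ Z) :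
    (Sq (⊤ : Subgroup K)).ncard ≤ Nat.card (Sylow 2 K) * Z.ncard := by
  have := Fact.mk Nat.prime_two
  choose g hg using fun Q : Sylow 2 K => MulAction.exists_smul_eq K Q P
  rw [← Set.ncard_univ, ← Set.ncard_prod]
  refine (Set.ncard_le_ncard (t := (fun x : Sylow 2 K × K => (g x.1)⁻¹ * x.2 * g x.1) '' (Set.univ ×ˢ Z)) ?_
    (Set.toFinite _)).trans (Set.ncard_image_le (Set.toFinite _))
  rintro _ ⟨y, -, ⟨j, hj⟩, rfl⟩
  obtain ⟨Q, hQ⟩ := (IsPGroup.of_card (n := (Nat.card (zpowers y)).factorization 2) (by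
    obtain ⟨i, -, hi⟩ := (Nat.dvd_prime_pow Nat.prime_two).1 (orderOf_dvd_of_pow_eq_one hj)
    rw [Nat.card_zpowers, hi, Nat.Prime.factorization_pow Nat.prime_two, Finsupp.single_eq_same])).exists_le_sylow
  have h1 : g Q * y * (g Q)⁻¹ ∈ P := by
    rw [← hg Q]
    exact Subgroup.smul_mem_pointwise_smul y (MulAut.conj (g Q)) Q (hQ (mem_zpowers y))
  exact ⟨(Q, (g Q * y * (g Q)⁻¹) ^ 2), ⟨trivial, h _ h1⟩, by simp only [conj_pow]; group⟩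

/-- the centraliser is a maximal torus -/
structure Tor (p q : ℕ) (E : Subgroup K) : Prop where
  card : Nat.card (Cz E) ≤ (q ^ 2 + q + 1) ^ 2
  nd : ¬ p ∣ Nat.card (Cz E)
  idx : (Cz E).relIndex (Nz E) ≤ 24
  dvd : (Cz E).relIndex (Nz E) ∣ 192

/-- the centraliser has roots -/
structure Lev (p q : ℕ) (E : Subgroup K) : Prop where
  dvd : p ∣ Nat.card (Cz E)
  idx : ∀ x ∈ Nz E, ∀ y ∈ Nz E, x ∈ Cz E ∨ y ∈ Cz E ∨ x * y ∈ Cz E
  nu : Nat.card (Sylow p (Cz E)) ≤ (q + 1) ^ 3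
  two : p = 2 → 4 ≤ q → (Sq (Cz E)).ncard ≤ (q + 1) ^ 3 * q ∧ ∃ U ≤ Cz E, IsPGroup 2 U ∧
    ∀ Q : Subgroup K, (∀ x ∈ U, ∀ y ∈ U, x ∈ Q ∨ y ∈ Q ∨ x * y ∈ Q) → ∃ y ∈ U, y ∈ Q ∧ y ^ 2 ≠ 1

end Grp

variable {p : ℕ} [Fact p.Prime] {k : Type} [Field k] [CharP k p] [IsAlgClosed k] {Y : Type} [Group Y] {N : Type}
  [Fintype N] [DecidableEq N] {ρ : Y →* GL N k} {F : MulAut Y} {K : Type} [Group K] [Finite K]
  {n : ℕ} {D : Datum p ρ F ⊤} {ι : K →* Y} {θ : (D.I → ℤ) →+ (D.I → ℤ)} {E : Subgroup K} {r : ℕ}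

/-- the commutator of two root elements at an angle of `120` degrees is not trivial -/
theorem nd (hD : RD D.cs D.h) {a b : D.I → ℤ} (ha : D.Rt a) (hb : D.Rt b) (hab : cpr D.cs D.h b a = -1) {u v : Y}
    (hu : u ∈ D.X a) (hv : v ∈ D.X b) (h : u * v = v * u) : u = 1 ∨ v = 1 := by
  refine or_iff_not_imp_left.2 fun h1 => ?_
  obtain ⟨y, hy, m, hm, z, hz, e⟩ := NS.exists_form D ha.neg (ξ := u) (by rwa [neg_neg]) h1
  have h2 : 0 ≤ cpr D.cs D.h b (-a) := by rw [cpr_neg_right _ _ _ ha, hab]; omega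
  have h3 : Commute m v := by
    rw [show m = y⁻¹ * u * z⁻¹ by rw [e]; group]
    exact ((Commute.inv_left (ExtL.dc_of_rd hD _ b ha.neg hb h2 y hy v hv)).mul_left h).mul_left
      (Commute.inv_left (ExtL.dc_of_rd hD _ b ha.neg hb h2 z hz v hv))
  have h4 := D.conj_mem hm hb hv
  rw [h3.eq, mul_inv_cancel_right] at h4
  refine D.eq_one_of_mem_X_X hb (hb.act _) (fun e1 => ?_) hv h4
  have h5 := D.act_rf ha.neg b
  rw [show D.act (D.rf (-a)) b = b from e1.symm, cpr_neg_right _ _ _ ha, hab, neg_neg, one_smul, eq_comm, sub_eq_self] at h5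
  exact ha.neg.ne_zero h5

theorem comm_cen {Z : Set Y} {x y : Y} (hx : x ∈ D.cen Z) (hy : y ∈ D.cen Z) : ⁅x, y⁆ ∈ D.S (D.Sz Z) := by
  obtain ⟨s, hs, t, ht, rfl⟩ := (D.mem_TS D.Sz_root).1 hx
  obtain ⟨s', hs', t', ht', rfl⟩ := (D.mem_TS D.Sz_root).1 hy
  have h1 := mul_mem (mul_mem (mul_mem hs (D.conj_mem_S_of_T D.Sz_root ht hs'))
    (D.conj_mem_S_of_T D.Sz_root ht' (inv_mem hs))) (inv_mem hs')
  convert h1 using 1
  calc _ = s * (t * s' * t⁻¹) * (t * t' * t⁻¹) * s⁻¹ * t'⁻¹ * s'⁻¹ := by rw [commutatorElement_def]; group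
    _ = _ := by rw [D.T_comm ht ht']; group

theorem sub_qs {Z : Set Y} (hZ : Z ⊆ D.T) (hF : ∀ a ∈ D.Sz Z, D.g a ∈ D.Sz Z) (hpos : ∀ a ∈ D.Sz Z, 0 ≤ a → 0 ≤ D.g a) :
    (D.sub hZ hF rfl).QS := fun c hc h0 => by
  rw [← io_nonneg hZ hF rfl ((D.sub hZ hF rfl).g_root c hc), D.sub_g hZ hF rfl hc]
  exact hpos _ (io_mem hZ hF rfl hc) ((io_nonneg hZ hF rfl hc).2 h0)

theorem six_le {b c d : D.I → ℤ} (hb : D.Rt b) (hc : D.Rt c) (hd : D.Rt d)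
    (h1 : cpr D.cs D.h c b = 0) (h2 : cpr D.cs D.h d b = 0) (h3 : cpr D.cs D.h d c = 0) : (O3 b c d).ncard = 6 := by
  have e1 := cpr_self D.cs D.h hb
  have e2 := cpr_self D.cs D.h hc
  have e3 := cpr_self D.cs D.h hd
  have k : ∀ {x y : D.I → ℤ} (e : D.I → ℤ), D.Rt e → x = y → cpr D.cs D.h x e = cpr D.cs D.h y e := fun _ _ h => by rw [h]
  rw [O3, Set.ncard_insert_of_notMem, Set.ncard_insert_of_notMem, Set.ncard_insert_of_notMem,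
    Set.ncard_insert_of_notMem, Set.ncard_insert_of_notMem, Set.ncard_singleton]
  · intro h
    have := k d hd h
    rw [cpr_neg _ _ _ hd] at this
    omega
  · rintro (h | h) <;> have := k c hc h <;> simp only [cpr_neg _ _ _ hc] at this <;> omega
  · rintro (h | h | h) <;> have := k c hc h <;> (try simp only [cpr_neg _ _ _ hc] at this) <;> omega
  · rintro (h | h | h | h) <;> have := k b hb h <;> simp only [cpr_neg _ _ _ hb] at this <;> omega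
  · rintro (h | h | h | h | h) <;> have := k b hb h <;> (try simp only [cpr_neg _ _ _ hb] at this) <;> omega

section

variable (hM : Md n D ι θ) (hZ : im ι E ⊆ D.T)

include hM

theorem sep {s t : Y} (hs : s ∈ D.T) (ht : t ∈ D.T) (h : ∀ b, D.χ b s = D.χ b t) : s = t :=
  mul_inv_eq_one.1 (hM.eq_one (mul_mem hs (inv_mem ht)) fun b => by
    rw [D.χ_mul _ hs (inv_mem ht), D.χ_inv _ ht, h, mul_inv_cancel₀ (D.χ_ne_zero _ _)])

theorem ns_pm {a : D.I → ℤ} (ha : D.Rt a) (h : θ a = a ∨ θ a = -a) (hq : 4 ≤ p ^ n) {H : Subgroup K}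
    (hH : Group.IsSolvable H) (hle : ∀ g, ι g ∈ D.S {a, -a} → g ∈ H) : False := by
  refine boxNS p k Y N ρ F ⊤ D n 1 a hM.ex ha one_pos (by rwa [pow_one]) (by rwa [← hM.g] at h)
    (fun i hi i' hi' hne => by omega) (hM.solv hH fun g hg => hle g (RGD.Sup_mono ?_ hg))
  rintro c ⟨i, hi, hc⟩
  obtain rfl : i = 0 := by omega
  exact hc

include hZ

theorem act {g : K} (hg : g ∈ Nz E) : ∃ w : D.W, (∀ a ∈ D.Sz (im ι E), D.act w a ∈ D.Sz (im ι E)) ∧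
    ∀ b, ∀ x ∈ E, D.χ (D.act w b) (ι (g * x * g⁻¹)) = D.χ b (ι x) := by
  obtain ⟨c, -, m, ⟨w, hm⟩, h1, -⟩ := D.exists_conj_form (s := fun x : E => ι x) (t := fun x : E => ι (g * x * g⁻¹))
    (fun x => hZ ⟨_, x.2, rfl⟩) (fun x => hZ ⟨_, mem_Nz.1 hg x x.2, rfl⟩) (mem_top (ι g))
    (fun x => by rw [← map_mul, ← map_mul, inv_mul_cancel_right])
  have h2 : ∀ b, ∀ x ∈ E, D.χ (D.act w b) (ι (g * x * g⁻¹)) = D.χ b (ι x) := fun b x hx => by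
    rw [← D.χ_rp hm b (hZ ⟨x, hx, rfl⟩), h1 ⟨x, hx⟩, mul_inv_cancel_right]
  refine ⟨w, fun a ha => ⟨ha.1.act w, ?_⟩, h2⟩
  rintro _ ⟨x, hx, rfl⟩
  have h3 := mem_Nz.1 (inv_mem hg) x hx
  have h4 := h2 a _ h3
  rw [show g * (g⁻¹ * x * g⁻¹⁻¹) * g⁻¹ = x by group] at h4
  exact h4.trans (ha.2 _ ⟨_, h3, rfl⟩)

theorem idx_of_pm (h : ∀ w : D.W, (∀ a ∈ D.Sz (im ι E), D.act w a ∈ D.Sz (im ι E)) → PM D.cs D.h w (D.Lam (im ι E))) :
    ∀ x ∈ Nz E, ∀ y ∈ Nz E, x ∈ Cz E ∨ y ∈ Cz E ∨ x * y ∈ Cz E := by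
  have key : ∀ g ∈ Nz E, g ∈ Cz E ∨ ∀ x ∈ E, g * x * g⁻¹ = x⁻¹ := fun g hg => by
    obtain ⟨w, h1, h2⟩ := act hM hZ hg
    have h3 : ∀ x ∈ E, ι (g * x * g⁻¹) ∈ im ι E := fun x hx => ⟨_, mem_Nz.1 hg x hx, rfl⟩
    refine (h w h1).imp (fun h4 => mem_Cz.2 fun x hx => (mul_inv_eq_iff_eq_mul.1 (hM.inj
      (sep hM (hZ (h3 x hx)) (hZ ⟨x, hx, rfl⟩) fun b => ?_))).symm) fun h4 x hx => hM.inj
        (sep hM (hZ (h3 x hx)) (hZ ⟨_, inv_mem hx, rfl⟩) fun b => ?_)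
    · have h5 := h4 b _ (h3 x hx)
      rw [sub_eq_add_neg, D.χ_add, D.χ_neg, mul_inv_eq_one₀ (D.χ_ne_zero _ _)] at h5
      exact h5.symm.trans (h2 b x hx)
    · have h5 := h4 b _ (h3 x hx)
      rw [D.χ_add] at h5
      rw [map_inv, D.χ_inv _ (hZ ⟨x, hx, rfl⟩), ← h2 b x hx]
      exact eq_inv_of_mul_eq_one_right h5
  intro x hx y hy
  rcases key x hx with h1 | h1
  · exact Or.inl h1
  rcases key y hy with h2 | h2
  · exact Or.inr (Or.inl h2)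
  refine Or.inr (Or.inr (mem_Cz.2 fun z hz => (mul_inv_eq_iff_eq_mul.1 ?_).symm))
  rw [show x * y * z * (x * y)⁻¹ = x * (y * z * y⁻¹) * x⁻¹ by group, h2 z hz, h1 _ (inv_mem hz), inv_inv]

theorem sq_mem (h : ∀ w : D.W, (∀ a ∈ D.Sz (im ι E), D.act w a ∈ D.Sz (im ι E)) → ∀ b, D.act w (D.act w b) = b) {g : K}
    (hg : g ∈ Nz E) : g * g ∈ Cz E := by
  obtain ⟨w, h1, h2⟩ := act hM hZ hg
  refine mem_Cz.2 fun x hx => (mul_inv_eq_iff_eq_mul.1 (hM.inj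
    (sep hM (hZ ⟨_, mem_Nz.1 (mul_mem hg hg) x hx, rfl⟩) (hZ ⟨x, hx, rfl⟩) fun b => ?_))).symm
  rw [← h2 b x hx, ← h2 _ _ (mem_Nz.1 hg x hx), h w h1]
  congr 2
  group

theorem dvd_W (hP : PPr D.cs D.h) (h2 : Sat 2 (D.Lam (im ι E))) (h0 : D.Sz (im ι E) = ∅) :
    (Cz E).relIndex (Nz E) ∣ Nat.card D.W := by
  have h1 : ∀ g ∈ Nz E, ι g ∈ D.NN := by
    intro g hg
    obtain ⟨c, hc, m, hm, -, e⟩ := D.exists_conj_form (s := fun x : E => ι (g⁻¹ * x * g)) (t := fun x : E => ι x)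
      (fun x => hZ ⟨_, by simpa using mem_Nz.1 (inv_mem hg) x x.2, rfl⟩) (fun x => hZ ⟨_, x.2, rfl⟩) (mem_top (ι g))
      (fun x => by rw [← map_mul, ← map_mul]; congr 1; group)
    have h3 : Set.range (fun x : E => ι x) = im ι E := by
      ext z
      exact ⟨fun ⟨x, hx⟩ => ⟨x, x.2, hx⟩, fun ⟨x, hx, e⟩ => ⟨⟨x, hx⟩, e⟩⟩
    rw [h3, h0, Datum.S, Nodes.OppDec.Sup_empty, mem_bot] at hc
    rwa [e, hc, one_mul]
  let f : Nz E →* D.W := MonoidHom.mk' (fun g => D.pr (ι g)) fun a b => by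
    rw [coe_mul, map_mul, D.pr_mul (h1 _ a.2) (h1 _ b.2)]
  have h3 : (Cz E).subgroupOf (Nz E) = f.ker := Subgroup.ext fun g =>
    ⟨fun h => (D.pr_eq_one_iff (h1 _ g.2)).2 (hM.mem_T hZ hP h2 h0 h), fun h =>
      hM.mem_cz.2 fun z hz => D.T_comm (hZ hz) ((D.pr_eq_one_iff (h1 _ g.2)).1 h)⟩
  rw [relIndex, h3, index_ker]
  exact card_subgroup_dvd_card _

/-- the centraliser as a finite reductive group -/
theorem exists_iso (hP : PPr D.cs D.h) (h2 : Sat 2 (D.Lam (im ι E))) :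
    ∃ e : Cz E ≃* GF F (D.cen (im ι E)), ∀ g, (e g : Y) = ι g := by
  let f : Cz E →* GF F (D.cen (im ι E)) :=
    (ι.comp (Cz E).subtype).codRestrict _ fun g => ⟨hM.mem_cen hZ hP h2 g.2, hM.fix _⟩
  refine ⟨MulEquiv.ofBijective f ⟨fun a b h => Subtype.ext (hM.inj (congrArg Subtype.val h)), fun y => ?_⟩, fun _ => rfl⟩
  obtain ⟨g, hg⟩ := (hM.range y).1 y.2.2
  exact ⟨⟨g, hM.mem_cz.2 (hg ▸ D.cen_le_centralizer hZ y.2.1)⟩, Subtype.ext hg⟩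

theorem nu_three (hP : PPr D.cs D.h) (h2 : Sat 2 (D.Lam (im ι E))) (h6 : (D.Sz (im ι E)).ncard ≤ 6) :
    Nat.card (Sylow p (GF F (D.cen (im ι E)))) ≤ (p ^ n + 1) ^ 3 ∧ Nat.card (Sylow p (Cz E)) ≤ (p ^ n + 1) ^ 3 := by
  obtain ⟨e, -⟩ := exists_iso hM hZ hP h2
  have := D.amb.finite_GF (D.cen (im ι E))
  have h1 := Card.two_mul_pos (D.sub hZ (hM.g_Sz hZ) rfl)
  rw [← Set.ncard_image_of_injective _ (D.io_injective (im ι E)),
    ← Set.ncard_image_of_injective _ (D.io_injective (im ι E))] at h1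
  have h3 : 2 * (RGD.Pos D.cs D.h ∩ D.Sz (im ι E)).ncard ≤ (D.Sz (im ι E)).ncard := by
    rw [← D.io_pos]
    conv_rhs => rw [← D.io_roots]
    exact h1
  have h4 := (nu_cen hM.fq D hZ (hM.g_Sz hZ)).trans (Nat.pow_le_pow_right (Nat.succ_pos _) (by omega : _ ≤ 3))
  exact ⟨h4, (Nat.card_le_card_of_surjective _ (Sylow.mapSurjective_surjective (f := e.symm.toMonoidHom)
    e.symm.surjective p)).trans h4⟩

theorem p_dvd (hpos : ∀ a ∈ D.Sz (im ι E), 0 ≤ a → 0 ≤ D.g a) (h0 : (D.Sz (im ι E)).Nonempty) : p ∣ Nat.card (Cz E) := by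
  obtain ⟨a, ha⟩ := h0
  obtain ⟨c, ⟨-, i, -⟩, -⟩ := exists_io hZ (hM.g_Sz hZ) rfl ha
  obtain ⟨u, hu, h1, h2⟩ := St.move (sub_qs hZ (hM.g_Sz hZ) hpos) i
  obtain ⟨g, rfl⟩ := (hM.range u).1 h1
  obtain ⟨j, hj⟩ := (D.sub hZ (hM.g_Sz hZ) rfl).isPGroup_U ⟨_, hu⟩
  have h3 : g ^ p ^ j = 1 := hM.inj (by rw [map_pow, map_one]; exact congrArg Subtype.val hj)
  have h4 : g ∈ Cz E := hM.mem_cz.2 (D.cen_le_centralizer hZ ((D.sub hZ (hM.g_Sz hZ) rfl).U_le_G hu))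
  obtain ⟨i', -, hi⟩ := (Nat.dvd_prime_pow Fact.out).1 (orderOf_dvd_of_pow_eq_one h3)
  refine (dvd_pow_self p fun e => h2 1 (one_mem _) ?_).trans (hi ▸ (Cz E).orderOf_dvd_natCard h4)
  rw [e, pow_zero, orderOf_eq_one_iff] at hi
  rw [hi, map_one]
  simp

/-- the root groups orthogonal to the roots of the centraliser -/
theorem perp (hD : RD D.cs D.h) (h2 : Sat 2 (D.Lam (im ι E)))
    (hmax : ∀ X : Subgroup K, X ≠ ⊥ → X ≤ Nz E → Chr E X → Nz X ≤ Nz E) (hp : p ∣ Nat.card (Cz E))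
    (hsq : ∀ g ∈ Nz E, g * g ∈ Cz E) {A : Set (D.I → ℤ)}
    (hA : ∀ c ∈ A, D.Rt c ∧ ∀ a ∈ D.Sz (im ι E), cpr D.cs D.h c a = 0) : Group.IsSolvable ((D.S A).comap ι) := by
  let X : Subgroup K := closure {x | x ∈ Cz E ∧ x ^ p = 1}
  have hX : Chr E X := chr_closure fun α hα x hx => ⟨(Chr.refl E).cz α hα x hx.1, by rw [← map_pow, hx.2, map_one]⟩
  have hXC : X ≤ Cz E := (closure_le _).2 fun x hx => hx.1
  obtain ⟨u, hu⟩ := exists_prime_orderOf_dvd_card' p hp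
  have hX0 : X ≠ ⊥ := fun e => by
    have h1 : (u : K) ∈ X := subset_closure ⟨u.2, by rw [← hu, ← orderOf_coe, pow_orderOf_eq_one]⟩
    rw [e, mem_bot] at h1
    rw [← orderOf_coe, h1, orderOf_one] at hu
    exact (Fact.out : p.Prime).one_lt.ne hu
  have hc : ∀ x, ι x ∈ D.S (D.Sz (im ι E)) → ∀ y, ι y ∈ D.S A → x * y = y * x := fun x hx y hy => hM.inj (by
    rw [map_mul, map_mul]
    exact (comm_S_S (fun c hc a ha u hu v hv => comm_of_orth hD (hA c hc).1 ha.1 ((hA c hc).2 a ha) u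
      (mem_sup_left hu) v (mem_sup_left hv)) hy hx).symm)
  have hL : (D.S A).comap ι ≤ Nz E := fun g hg => hmax X hX0 (hXC.trans Cz_le_Nz) hX (Cz_le_Nz (by
    have h1 : X ≤ centralizer {g} := (closure_le _).2 fun x hx => mem_centralizer_singleton_iff.2
      (hc x (hM.mem_S hZ hD.pp h2 hx.1 hx.2) g hg)
    exact mem_Cz.2 fun x hx => mem_centralizer_singleton_iff.1 (h1 hx)))
  refine solv3 _ (Cz E) ((D.S (D.Sz (im ι E))).comap ι) (fun x hx y hy => ?_) (fun x hx y hy => ?_) hc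
  · have h1 := mul_mem (mul_mem (hsq x (hL hx)) (hsq _ (hL (mul_mem (inv_mem hx) hy)))) (hsq _ (hL (inv_mem hy)))
    convert h1 using 1
    rw [commutatorElement_def]
    group
  · rw [mem_comap, map_commutatorElement]
    exact comm_cen (hM.mem_cen hZ hD.pp h2 hx) (hM.mem_cen hZ hD.pp h2 hy)

end

section

variable {k : Type} [Field k] [CharP k 2] [IsAlgClosed k] {ρ : Y →* GL N k} {D : Datum 2 ρ F ⊤}
  {θ : (D.I → ℤ) →+ (D.I → ℤ)}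

/-- centralisers of type `A₂` in characteristic two -/
theorem a2_two (hM : Md n D ι θ) (hZ : im ι E ⊆ D.T) (hD : RD D.cs D.h) (h2 : Sat 2 (D.Lam (im ι E)))
    (hpos : ∀ a ∈ D.Sz (im ι E), 0 ≤ a → 0 ≤ D.g a) {a b : D.I → ℤ} (ha : D.Rt a) (hb : D.Rt b) (a0 : 0 ≤ a) (b0 : 0 ≤ b)
    (hab : cpr D.cs D.h b a = -1) (hS : D.Sz (im ι E) = A2 a b) (h6 : (D.Sz (im ι E)).ncard ≤ 6)
    (hθ : (θ a = a ∧ θ b = b) ∨ (θ a = b ∧ θ b = a)) (hq : 4 ≤ 2 ^ n) :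
    (Sq (Cz E)).ncard ≤ (2 ^ n + 1) ^ 3 * 2 ^ n ∧ ∃ U ≤ Cz E, IsPGroup 2 U ∧
      ∀ Q : Subgroup K, (∀ x ∈ U, ∀ y ∈ U, x ∈ Q ∨ y ∈ Q ∨ x * y ∈ Q) → ∃ y ∈ U, y ∈ Q ∧ y ^ 2 ≠ 1 := by
  have hba : cpr D.cs D.h a b = -1 := by rw [hD.symm a b ha hb, hab]
  have mc : a + b ∈ D.Sz (im ι E) := by rw [hS]; simp [A2]
  have hc := mc.1
  have c1 : cpr D.cs D.h (a + b) a = 1 := by rw [cpr_add', cpr_self _ _ ha, hab]; rfl
  have c2 : cpr D.cs D.h (a + b) b = 1 := by rw [cpr_add', cpr_self _ _ hb, hba]; rfl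
  have c3 : cpr D.cs D.h a (a + b) = 1 := by rw [hD.symm _ _ ha hc, c1]
  have c4 : cpr D.cs D.h b (a + b) = 1 := by rw [hD.symm _ _ hb hc, c2]
  have n1 : a ≠ b := fun e => by rw [e, cpr_self _ _ hb] at hba; omega
  have hAr : ∀ c ∈ ({a, b, a + b} : Set (D.I → ℤ)), c ∈ RGD.Pos D.cs D.h := by
    rintro c (rfl | rfl | rfl)
    exacts [⟨ha, a0⟩, ⟨hb, b0⟩, ⟨hc, add_nonneg a0 b0⟩]
  have hA : RGD.Pos D.cs D.h ∩ D.Sz (im ι E) = {a, b, a + b} := by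
    refine Set.Subset.antisymm (fun c hc' => ?_) fun c hc' => ⟨hAr c hc', ?_⟩
    · have h1 := hc'.2
      rw [hS] at h1
      rcases h1 with h | h | h | h | h | h
      exacts [Or.inl h, Or.inr (Or.inl h), Or.inr (Or.inr h), absurd h (ne_neg_of_nonneg hc'.1.1 hc'.1.2 a0),
        absurd h (ne_neg_of_nonneg hc'.1.1 hc'.1.2 b0), absurd h (ne_neg_of_nonneg hc'.1.1 hc'.1.2 (add_nonneg a0 b0))]
    · rw [hS]
      rcases hc' with rfl | rfl | rfl <;> simp [A2]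
  have hAB : ({a, b, a + b} : Set (D.I → ℤ)) \ {a, b} ⊆ {a + b} := by
    rintro c ⟨rfl | rfl | rfl, h⟩
    exacts [absurd (Or.inl rfl) h, absurd (Or.inr rfl) h, rfl]
  have mAB : a + b ∈ ({a, b, a + b} : Set (D.I → ℤ)) \ {a, b} := ⟨Or.inr (Or.inr rfl), by
    rintro (h | h)
    exacts [hb.ne_zero (add_eq_left.1 h), ha.ne_zero (add_eq_right.1 h)]⟩
  obtain ⟨κ, H⟩ := exists_crd (crel_btwn (D := D)) (A := {a, b, a + b}) (B := {a, b}) (fun c hc => (hAr c hc).1)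
    Nodes.Slope.htHom
    (fun c hc => D.ht_pos_of_pos c (hAr c hc)) (by rintro c (rfl | rfl) <;> simp) (by
      rintro x (rfl | rfl | rfl) y (rfl | rfl | rfl) h c hc'
      all_goals first
        | exact absurd rfl h
        | exact (hD.btw0 _ _ c (by assumption) (by assumption) h (by omega) hc').elim
        | skip
      · exact (hD.btw1 _ _ c ha hb hab).1 hc' ▸ mAB
      · exact ((hD.btw1 _ _ c hb ha hba).1 hc').trans (add_comm _ _) ▸ mAB)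
  have gc : D.g (a + b) = a + b := by
    rw [hM.g, map_add]
    rcases hθ with ⟨h1, h3⟩ | ⟨h1, h3⟩ <;> rw [h1, h3]
    exact add_comm b a
  have gB : ∀ c ∈ ({a, b} : Set (D.I → ℤ)), D.g c ∈ ({a, b} : Set (D.I → ℤ)) := by
    rintro c (rfl | rfl) <;> rw [hM.g] <;> rcases hθ with ⟨h1, h3⟩ | ⟨h1, h3⟩ <;> simp [h1, h3]
  have gA : ∀ c ∈ ({a, b, a + b} : Set (D.I → ℤ)), D.g c ∈ ({a, b, a + b} : Set (D.I → ℤ)) := by
    rintro c (rfl | rfl | rfl)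
    exacts [H.sub (gB _ (Or.inl rfl)), H.sub (gB _ (Or.inr rfl)), Or.inr (Or.inr gc)]
  refine ⟨?_, (D.S {a, b, a + b}).comap ι, fun g hg => hM.le_cz hZ (hA ▸ Set.inter_subset_right) hg,
    (D.isPGroup_U.to_le (RGD.Sup_mono hAr)).comap_of_injective ι hM.inj, fun Q hQ => ?_⟩
  · have := D.amb.finite_GF (D.cen (im ι E))
    have hqs := sub_qs hZ (hM.g_Sz hZ) hpos
    have h1 := St.card_U (D.sub hZ (hM.g_Sz hZ) rfl).sbn (St.aut_qs hqs) (H := GF F (D.cen (im ι E))) (fun _ => mem_GF)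
      (D.sub hZ (hM.g_Sz hZ) rfl).isPGroup_U (fun _ => St.eq_one_of_pow _) (St.move hqs)
    rw [D.sub_U', hA] at h1
    have h3 : Nat.card ((D.S {a, b, a + b}).subgroupOf (GF F (D.cen (im ι E)))) =
        2 ^ (Nat.card (GF F (D.cen (im ι E)))).factorization 2 := by
      rw [← h1, ← inf_subgroupOf_right]
      exact Nat.card_congr (subgroupOfEquivOfLe inf_le_right).toEquiv
    have h4 := sq_le (Sylow.ofCard _ h3) {z | (z : Y) ∈ D.S {a + b}} fun y hy => RGD.Sup_mono hAB (H.pow_p hy)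
    have h5 := D.uni_btwn ha hb n1 (ne_neg_of_nonneg ha a0 b0)
    rw [show {c | Btwn D.cs D.h a b c} = {a + b} from Set.ext fun c => hD.btw1 a b c ha hb hab] at h5
    have h7 := hM.fq.card_S D 1 _ h5 (by rintro _ rfl; exact gc) (Set.ncard_singleton _)
    have := D.amb.finite_fix
    have : Finite ↥(D.S {a + b} ⊓ fix F) := Finite.of_injective _ (inclusion_injective inf_le_right)
    have h8 : {z : GF F (D.cen (im ι E)) | (z : Y) ∈ D.S {a + b}}.ncard ≤ 2 ^ n :=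
      le_trans (Nat.card_le_card_of_injective (α := {z : GF F (D.cen (im ι E)) | (z : Y) ∈ D.S {a + b}})
        (β := ↥(D.S {a + b} ⊓ fix F)) (fun z => ⟨z.1.1, z.2, z.1.2.2⟩) fun _ _ h =>
          Subtype.ext (Subtype.ext (congrArg (fun z : ↥(D.S {a + b} ⊓ fix F) => (z : Y)) h))) (by rwa [pow_one] at h7)
    refine le_trans ?_ (h4.trans (Nat.mul_le_mul (nu_three hM hZ hD.pp h2 h6).1 h8))
    rw [← Set.ncard_image_of_injective _ hM.inj, ← Set.ncard_image_of_injective _ Subtype.val_injective]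
    refine Set.ncard_le_ncard ?_ ((Set.toFinite _).image _)
    rintro _ ⟨_, ⟨y, hy, ⟨j, hj⟩, rfl⟩, rfl⟩
    exact ⟨_, ⟨⟨ι y, hM.mem_cen hZ hD.pp h2 hy, hM.fix y⟩, trivial,
      ⟨j, Subtype.ext (by rw [coe_pow, ← map_pow, hj, map_one]; rfl)⟩, rfl⟩, (map_pow ι y 2).symm⟩
  have k1 : ∀ c ∈ ({a, b} : Set (D.I → ℤ)), ∃ u, ι u ∈ D.S {a, b, a + b} ∧ u ∈ Q ∧ κ c (ι u) ≠ 0 := fun c hc => by
    obtain ⟨C, hC, h1⟩ := H.exists_orbit hM.ex gA gB hc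
    have hd := Function.minimalPeriod_pos_of_mem_periodicPts (periodic (H.root c (H.sub hc)))
    have hn := Nat.mul_pos hM.fq.1 hd
    obtain ⟨s, e1, s0⟩ := exists_sol_ne (p := 2) hC hn
    obtain ⟨t, e2, t0⟩ := exists_sol (p := 2) hC hn (E := {0, s}) (Set.toFinite _) (by
      have h3 := Set.ncard_insert_le (0 : k) {s}
      rw [Set.ncard_singleton] at h3
      have h4 : 2 ^ n ≤ 2 ^ (n * Function.minimalPeriod D.g c) := Nat.pow_le_pow_right two_pos (Nat.le_mul_of_pos_right _ hd)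
      omega)
    obtain ⟨y, hy, f1, e3, -⟩ := h1 s e1
    obtain ⟨z, hz, f2, e4, -⟩ := h1 t e2
    obtain ⟨y, rfl⟩ := (hM.range y).1 f1
    obtain ⟨z, rfl⟩ := (hM.range z).1 f2
    rcases hQ y hy z hz with h | h | h
    · exact ⟨y, hy, h, e3 ▸ s0⟩
    · exact ⟨z, hz, h, e4 ▸ fun e => t0 (Or.inl e)⟩
    · refine ⟨y * z, by rw [map_mul]; exact mul_mem hy hz, h, ?_⟩
      rw [map_mul, H.mul c hc _ hy _ hz, e3, e4]
      exact fun e => t0 (Or.inr (show t = s by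
        linear_combination e - s * (CharP.cast_eq_zero k 2 : ((2 : ℕ) : k) = 0)))
  have k2 : ∀ y ∈ D.S {a, b, a + b}, κ a y ≠ 0 → κ b y ≠ 0 → y ^ 2 ≠ 1 := fun y hy h1 h3 h4 => by
    have m1 := x_mem_S (A := {a, b, a + b}) (Or.inl rfl) ha (κ a y)
    have m2 := x_mem_S (A := {a, b, a + b}) (Or.inr (Or.inl rfl)) hb (κ b y)
    have h5 : (D.x a (κ a y) * D.x b (κ b y))⁻¹ * y ∈ D.X (a + b) :=
      S_le_X hAB (H.ker _ (mul_mem (inv_mem (mul_mem m1 m2)) hy) fun c hc => by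
        rw [H.mul c hc _ (inv_mem (mul_mem m1 m2)) _ hy, H.inv hc (mul_mem m1 m2), H.mul c hc _ m1 _ m2]
        rcases hc with rfl | rfl
        · rw [H.self _ (Or.inl rfl), H.ne _ (Or.inl rfl) b (Or.inr (Or.inl rfl)) n1.symm]
          ring
        · rw [H.self _ (Or.inr rfl), H.ne _ (Or.inr rfl) a (Or.inl rfl) n1]
          ring)
    have h7 : Commute (D.x a (κ a y) * D.x b (κ b y)) ((D.x a (κ a y) * D.x b (κ b y))⁻¹ * y) :=
      Commute.mul_left (ExtL.dc_of_rd hD a _ ha hc (by omega) _ (D.x_mem ha _) _ h5)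
        (ExtL.dc_of_rd hD b _ hb hc (by omega) _ (D.x_mem hb _) _ h5)
    have h8 := h7.mul_pow 2
    rw [mul_inv_cancel_left, h4, X_pow_p hc h5, mul_one] at h8
    have h9 := x_pow_p ha (κ a y)
    have h10 := x_pow_p hb (κ b y)
    rcases nd hD ha hb hab (D.x_mem ha (κ a y)) (D.x_mem hb (κ b y)) (by
      have i : ∀ x : Y, x ^ 2 = 1 → x⁻¹ = x := fun x h => inv_eq_of_mul_eq_one_right (by rwa [sq] at h)
      rw [← i _ h8.symm, mul_inv_rev, i _ h9, i _ h10]) with h | h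
    exacts [h1 ((D.x_eq_one_iff ha).1 h), h3 ((D.x_eq_one_iff hb).1 h)]
  have k3 : ∀ y : K, ι y ∈ D.S {a, b, a + b} → κ a (ι y) ≠ 0 → κ b (ι y) ≠ 0 → y ^ 2 ≠ 1 := fun y hy h1 h3 h4 =>
    k2 _ hy h1 h3 (by rw [← map_pow, h4, map_one])
  obtain ⟨u, u1, u2, u3⟩ := k1 a (Or.inl rfl)
  obtain ⟨v, v1, v2, v3⟩ := k1 b (Or.inr rfl)
  by_cases h1 : κ b (ι u) = 0
  · by_cases h3 : κ a (ι v) = 0
    · have h4 : ι (u * v) ∈ D.S {a, b, a + b} := by rw [map_mul]; exact mul_mem u1 v1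
      refine ⟨u * v, h4, mul_mem u2 v2, k3 _ h4 ?_ ?_⟩
      · rwa [map_mul, H.mul a (Or.inl rfl) _ u1 _ v1, h3, add_zero]
      · rwa [map_mul, H.mul b (Or.inr rfl) _ u1 _ v1, h1, zero_add]
    · exact ⟨v, v1, v2, k3 v v1 h3 v3⟩
  · exact ⟨u, u1, u2, k3 u u1 u3 h1⟩

end

theorem cases_aux (hM : Md n D ι θ) (hD : RD D.cs D.h) (hT : RT D.cs D.h θ) (hX : RX D.cs D.h) (hY : RY D.cs D.h θ)
    (hE : EA r E) (h2 : r ≠ 2) (hmax : ∀ X : Subgroup K, X ≠ ⊥ → X ≤ Nz E → Chr E X → Nz X ≤ Nz E)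
    (hZ : im ι E ⊆ D.T) (hpos : ∀ a ∈ D.Sz (im ι E), 0 ≤ a → 0 ≤ D.g a) : Tor p (p ^ n) E ∨ Lev p (p ^ n) E := by
  have hs2 : Sat 2 (D.Lam (im ι E)) := hM.sat hZ hE Nat.prime_two h2
  rcases (D.Sz (im ι E)).eq_empty_or_nonempty with h0 | h0
  · have h1 := hM.torC hZ hD.pp hs2 h0 (hM.card_T hT) hT.cw
    exact Or.inl ⟨h1.card, h1.nd, h1.idx, hX.cardW ▸ dvd_W hM hZ hD.pp hs2 h0⟩
  right
  have h6 : (D.Sz (im ι E)).ncard ≤ 6 := hT.six _ hs2 (hM.proper hZ hE) fun _ => hM.stab hZ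
  have hp := p_dvd hM hZ hpos h0
  have hν := (nu_three hM hZ hD.pp hs2 h6).2
  rcases hT.cls (D.Lam (im ι E)) h0 (fun _ => hM.stab hZ) (fun a ha h => hM.g a ▸ hpos a ha h) with
    ⟨b, hb, h1⟩ | ⟨a, ha, h1, h3⟩ | ⟨a, b, ha, hb, a0, b0, hab, h3, h4⟩
  · have hb1 : θ b ∈ D.Sz (im ι E) := hM.g b ▸ hM.g_Sz hZ b hb
    have hb2 : θ (θ b) ∈ D.Sz (im ι E) := hM.g (θ b) ▸ hM.g_Sz hZ _ hb1
    obtain ⟨h3, h4, -⟩ := hT.t1 b hb.1 h1
    have h5 : O3 b (θ b) (θ (θ b)) = D.Sz (im ι E) := Set.eq_of_subset_of_ncard_le (by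
      rintro c (rfl | rfl | rfl | rfl | rfl | rfl)
      exacts [hb, D.Sz_neg hb, hb1, D.Sz_neg hb1, hb2, D.Sz_neg hb2])
      (h6.trans (six_le hb.1 hb1.1 hb2.1 h1 h3 h4).ge) (D.finite_roots.subset fun _ h => h.1)
    have h7 := idx_of_pm hM hZ fun w hw => hX.x3 w b _ _ hb.1 hb1.1 hb2.1 h1 h3 h4 (h5 ▸ hw b hb) (h5 ▸ hw _ hb1)
      (h5 ▸ hw _ hb2) _ hs2 hb.2 hb1.2 hb2.2
    refine ⟨hp, h7, hν, fun _ hq => ?_⟩
    obtain ⟨a, ha, e1, e2, e3, e4⟩ := hY b hb.1 h1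
    refine (ns_pm hM ha e1 hq (perp hM hZ hD hs2 hmax hp (fun g hg => ?_) (A := {a, -a}) ?_) fun _ h => h).elim
    · rcases h7 g hg g hg with h | h | h
      exacts [mul_mem h h, mul_mem h h, h]
    · have k : ∀ c ∈ D.Sz (im ι E), cpr D.cs D.h a c = 0 := fun c hc => by
        rw [hD.symm a c ha hc.1]
        rw [← h5] at hc
        rcases hc with rfl | rfl | rfl | rfl | rfl | rfl <;> simp only [cpr_neg _ _ _ ha, e2, e3, e4, neg_zero]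
      rintro c (rfl | rfl)
      exacts [⟨ha, k⟩, ⟨ha.neg, fun d hd => by rw [cpr_neg _ _ _ hd.1, k d hd, neg_zero]⟩]
  · have h3' : D.Sz (im ι E) = {a, -a} := h3
    obtain ⟨c, hc, h4⟩ := hD.perp a ha
    obtain ⟨h5, h7, h8⟩ := hT.t2 a c ha hc h1 h4
    have hc1 : D.Rt (θ c) := hM.root hc
    have hc2 : D.Rt (θ (θ c)) := hM.root hc1
    refine (hM.ns_three boxNS hD hT hc h5 (perp hM hZ hD hs2 hmax hp
      (fun g hg => sq_mem hM hZ (fun w hw => hX.x1 w a ha ?_) hg) ?_) fun _ h => h).elim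
    · have := hw a (by rw [h3']; exact Or.inl rfl)
      rwa [h3'] at this
    · have k : ∀ d, cpr D.cs D.h d a = 0 → ∀ e ∈ D.Sz (im ι E), cpr D.cs D.h d e = 0 := fun d hd e he => by
        rw [h3'] at he
        rcases he with rfl | rfl
        exacts [hd, by rw [cpr_neg_right _ _ _ ha, hd, neg_zero]]
      have k' : ∀ d, cpr D.cs D.h d a = 0 → cpr D.cs D.h (-d) a = 0 := fun d hd => by rw [cpr_neg _ _ _ ha, hd, neg_zero]
      rintro d (rfl | rfl | rfl | rfl | rfl | rfl)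
      exacts [⟨hc, k _ h4⟩, ⟨hc.neg, k _ (k' _ h4)⟩, ⟨hc1, k _ h7⟩, ⟨hc1.neg, k _ (k' _ h7)⟩, ⟨hc2, k _ h8⟩,
        ⟨hc2.neg, k _ (k' _ h8)⟩]
  · have h3' : D.Sz (im ι E) = A2 a b := h3
    have ma : a ∈ D.Sz (im ι E) := by rw [h3']; simp [A2]
    have mb : b ∈ D.Sz (im ι E) := by rw [h3']; simp [A2]
    refine ⟨hp, idx_of_pm hM hZ fun w hw => hX.x2 w a b ha hb hab (h3' ▸ hw a ma) (h3' ▸ hw b mb) _ ma.2 mb.2, hν, ?_⟩
    rintro rfl hq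
    exact a2_two hM hZ hD hs2 hpos ha hb a0 b0 hab h3' h6 h4 hq

theorem cases_md (hM : Md n D ι θ) (hD : RD D.cs D.h) (hT : ∀ w, RT D.cs D.h (tw D.cs D.h w θ)) (hX : RX D.cs D.h)
    (hY : ∀ w, RY D.cs D.h (tw D.cs D.h w θ)) (hE : EA r E) (h2 : r ≠ 2)
    (hmax : ∀ X : Subgroup K, X ≠ ⊥ → X ≤ Nz E → Chr E X → Nz X ≤ Nz E)
    (ht : ∃ g : Y, ∀ x ∈ E, g * ι x * g⁻¹ ∈ D.T) : Tor p (p ^ n) E ∨ Lev p (p ^ n) E := by
  obtain ⟨y, hy, hy', z, hz, hz', h3, h4⟩ := hM.frame ht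
  exact cases_aux ((hM.conj hy hy').conj hz hz') hD (by rw [tw_tw]; exact hT _) hX (by rw [tw_tw]; exact hY _)
    hE h2 hmax h3 h4

open Cfsg.Lie Cfsg.Agent.H316.U6 in
/-- the two cases -/
theorem odd_cases (p : ℕ) [Fact p.Prime] {F : Type} [Field F] [Fintype F] [CharP F p] {q : ℕ} (hq : IsPrimePow q)
    (hF : Fintype.card F = q ^ 3) {E : Subgroup ↥(twistedD4 F q)} {r : ℕ} (hE : EA r E) (h2 : r ≠ 2) (hr : r ≠ p)
    (hmax : ∀ X : Subgroup ↥(twistedD4 F q), X ≠ ⊥ → X ≤ Nz E → Chr E X → Nz X ≤ Nz E) : Tor p q E ∨ Lev p q E := by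
  obtain ⟨m, hd, hg⟩ := mdata_twD4' (r := p) hq hF
  have hM := md m hd
  have he := m.hq
  have h0 : ∀ w, RT (dat m).cs (dat m).h (tw (dat m).cs (dat m).h w m.g.toAddMonoidHom) := by
    rw [hg]
    exact boxTabD.2
  have h1 : ∀ w, RY (dat m).cs (dat m).h (tw (dat m).cs (dat m).h w m.g.toAddMonoidHom) := by
    rw [hg]
    exact ry
  have := cases_md hM boxTabD.1 h0 rx h1 hE h2 hmax (toral m (Or.inr rfl) hE h2 hr)
  rwa [he] at this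

end Cfsg.Agent.TH.ExT
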