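import Cfsg.Agent.SB.Exc.Card

/-!
# S3541, exceptional groups: the number of Sylow `p`-subgroups of a finite reductive group (helper57)

`nu_le` : `G ^ F` has at most `(q + 1) ^ N` Sylow `p`-subgroups, `N` the number of positive roots (Bruhat decomposition).
-/

set_option autoImplicit false
set_option linter.unusedSectionVars false

namespace Cfsg.Agent.TH.ExT

open Cfsg.Agent.DL Cfsg.Agent.DL.Asm Cfsg.Agent.Nodes.Reps Cfsg.Agent.Nodes.BNOf Cfsg.Agent.Nodes.NormalForm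
  Cfsg.Agent.Tits.Roots Cfsg.Agent.ChevalleyStructure.CoxeterGeom Cfsg.Agent.SB.Exc.Card

variable {p : ℕ} [Fact p.Prime] {k : Type} [Field k] [CharP k p] [IsAlgClosed k] {Y : Type} [Group Y] {N : Type}
  [Fintype N] [DecidableEq N] {ρ : Y →* GL N k} {F : MulAut Y} {G : Subgroup Y} {n : ℕ}

theorem NW_inj (D : Datum p ρ F G) : Function.Injective fun w : D.W => NW D.cs D.h w := by
  intro w w' e
  have e' : NW D.cs D.h w = NW D.cs D.h w' := e
  have h1 : w' * w⁻¹ = 1 := by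
    refine eq_one_of_nonneg D.cs D.h _ fun i => ?_
    have hb : IsRoot D.cs D.h (sr i) := isRoot_sr _ _ i
    have ha := hb.act w⁻¹
    have hw : rep D.cs D.h w (rep D.cs D.h w⁻¹ (sr i)) = sr i := by
      have := rep_inv_apply D.cs D.h w⁻¹ (sr i)
      rwa [inv_inv] at this
    show 0 ≤ rep D.cs D.h (w' * w⁻¹) (sr i)
    rw [rep_mul_apply]
    rcases ha.pos_or_neg with h0 | h0
    · by_contra hn
      have h2 : rep D.cs D.h w⁻¹ (sr i) ∈ NW D.cs D.h w' := ⟨ha, h0, (ha.act w').not_nonneg_iff.1 hn⟩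
      rw [← e'] at h2
      have h3 := h2.2.2
      rw [hw] at h3
      exact hb.not_pos_neg (sr_nonneg i) h3
    · have h2 : -rep D.cs D.h w⁻¹ (sr i) ∈ NW D.cs D.h w :=
        ⟨ha.neg, neg_nonneg.2 h0, by rw [map_neg, hw]; exact neg_nonpos.2 (sr_nonneg i)⟩
      rw [e'] at h2
      have h3 := h2.2.2
      rwa [map_neg, neg_nonpos] at h3
  exact (mul_inv_eq_one.1 h1).symm

theorem g_NW {D : Datum p ρ F G} (h : D.QS) (w : D.W) {a : D.I → ℤ} (ha : a ∈ NW D.cs D.h w) :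
    D.g a ∈ NW D.cs D.h (D.Fw w) := by
  refine ⟨D.g_root a ha.1, h a ha.1 ha.2.1, ?_⟩
  have h1 := D.g_act w ha.1
  have h2 : D.Rt (D.act w a) := ha.1.act w
  show D.act (D.Fw w) (D.g a) ≤ 0
  rw [← h1, ← (D.g_root _ h2).not_nonneg_iff, h.nonneg_iff h2]
  exact fun h3 => h2.not_pos_neg h3 ha.2.2

theorem sum_NW (D : Datum p ρ F G) (q : ℕ) [Fintype D.W] :
    ∑ w : D.W, q ^ (NW D.cs D.h w).ncard ≤ (q + 1) ^ (RGD.Pos D.cs D.h).ncard := by
  classical
  have h0 : (RGD.Pos D.cs D.h).Finite := D.finite_roots.subset fun _ h => h.1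
  have h1 : ∀ w : D.W, (NW D.cs D.h w).Finite := fun w => D.finite_roots.subset fun _ h => h.1
  have h2 : (q + 1) ^ (RGD.Pos D.cs D.h).ncard = ∑ A ∈ h0.toFinset.powerset, q ^ A.card := by
    rw [Set.ncard_eq_toFinset_card _ h0, ← Finset.prod_const, Finset.prod_add_one]
    exact Finset.sum_congr rfl fun A _ => Finset.prod_const _
  have h3 : Function.Injective fun w : D.W => (h1 w).toFinset := fun w w' e =>
    NW_inj D (Set.Finite.toFinset_inj.1 e)
  rw [h2, Finset.sum_congr rfl fun w _ => by rw [Set.ncard_eq_toFinset_card _ (h1 w)],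
    ← Finset.sum_image (s := Finset.univ) (g := fun w : D.W => (h1 w).toFinset) (f := fun A => q ^ A.card) h3.injOn]
  refine Finset.sum_le_sum_of_subset fun A hA => ?_
  obtain ⟨w, -, rfl⟩ := Finset.mem_image.1 hA
  exact Finset.mem_powerset.2 (Set.Finite.toFinset_subset_toFinset.2 fun _ hx => ⟨hx.1, hx.2.1⟩)

theorem nu_qs (h : Fq p ρ F n) {D : Datum p ρ F G} (hq : D.QS) :
    Nat.card (Sylow p (GF F G)) ≤ (p ^ n + 1) ^ (RGD.Pos D.cs D.h).ncard := by
  classical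
  have := finite_GF D
  have := Fintype.ofFinite D.W
  have h1 := St.card_U D.sbn (St.aut_qs hq) (H := GF F G) (fun _ => mem_GF) D.isPGroup_U
    (fun _ => St.eq_one_of_pow _) (St.move hq)
  have h2 : Nat.card (D.U.subgroupOf (GF F G)) = p ^ (Nat.card (GF F G)).factorization p := by
    rw [← h1, ← Subgroup.inf_subgroupOf_right]
    exact Nat.card_congr (Subgroup.subgroupOfEquivOfLe inf_le_right).toEquiv
  let P : Sylow p (GF F G) := Sylow.ofCard _ h2
  choose r hr using fun w => (D.exists_rp w).imp fun _ h => h.1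
  have key : ∀ Q : Sylow p (GF F G), ∃ w : D.W, D.Fw w = w ∧ ∃ v ∈ D.S (NW D.cs D.h w) ⊓ fix F,
      ∀ x : GF F G, x ∈ Q ↔ r w * v * x * (r w * v)⁻¹ ∈ D.U := by
    intro Q
    obtain ⟨g, rfl⟩ := MulAction.exists_smul_eq (GF F G) P Q
    obtain ⟨w, u, hu, m, hm, v, hv, e⟩ := D.exists_normal_form (g⁻¹).2.1
    have e1 : F u * F m * F v = u * m * v := by rw [← map_mul, ← map_mul, ← e]; exact (g⁻¹).2.2
    obtain ⟨a1, -, -, a4⟩ := D.normal_form_unique ((hq.F_mem_U u).2 hu) hu hm.mapF hm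
      (D.F_mem_S (fun _ h => h.1) (fun a ha => g_NW hq w ha) hv) hv e1
    refine ⟨w, a1, v, ⟨hv, a4⟩, fun x => ?_⟩
    have ht : r w * m⁻¹ ∈ D.T := by
      have := (hr w).mul hm.inv
      rw [mul_inv_cancel] at this
      exact (D.pr_eq_one_iff ⟨_, this⟩).1 (Datum.Rp.pr_eq this)
    have e2 : x ∈ g • P ↔ (g⁻¹ : GF F G).1 * x * ((g⁻¹ : GF F G).1)⁻¹ ∈ D.U := by
      rw [← SetLike.mem_coe, Sylow.coe_smul, Set.mem_smul_set_iff_inv_smul_mem, ← map_inv]
      rfl
    rw [e2, e]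
    have e3 : r w * v * x * (r w * v)⁻¹ =
        (r w * m⁻¹) * (u⁻¹ * (u * m * v * x * (u * m * v)⁻¹) * u) * (r w * m⁻¹)⁻¹ := by group
    rw [e3, ← Subgroup.mem_normalizer_iff.1 (D.T_le_normalizer (fun _ h => h.1) ht),
      Subgroup.mul_mem_cancel_right _ hu, Subgroup.mul_mem_cancel_left _ (inv_mem hu)]
  choose w hw v hv hx using key
  have fin : ∀ w : D.W, Finite ↥(D.S (NW D.cs D.h w) ⊓ fix F) := fun w =>
    Finite.of_injective _ (Subgroup.inclusion_injective (K := GF F G)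
      (inf_le_inf_right _ (D.S_le_G fun _ h => h.1)))
  have h3 : Nat.card (Sylow p (GF F G)) ≤
      Nat.card (Σ w : {w : D.W // D.Fw w = w}, ↥(D.S (NW D.cs D.h w) ⊓ fix F)) := by
    refine Nat.card_le_card_of_injective (fun Q => ⟨⟨w Q, hw Q⟩, ⟨v Q, hv Q⟩⟩) fun Q Q' e => ?_
    have e1 : w Q = w Q' := congrArg (fun z => z.1.1) e
    have e2 : v Q = v Q' := congrArg (fun z => z.2.1) e
    refine Sylow.ext (Subgroup.ext fun x => ?_)
    exact (hx Q x).trans (by rw [e1, e2]; exact (hx Q' x).symm)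
  refine h3.trans (le_trans ?_ (sum_NW D (p ^ n)))
  rw [Nat.card_sigma]
  refine (Finset.sum_le_sum (g := fun w : {w : D.W // D.Fw w = w} => (p ^ n) ^ (NW D.cs D.h w.1).ncard)
    fun w _ => h.card_S D _ _ (D.uni_NW w) (fun a ha => ?_) rfl).trans ?_
  · have := g_NW hq w.1 ha
    rwa [w.2] at this
  · rw [← Finset.sum_subtype (Finset.univ.filter fun w : D.W => D.Fw w = w) (by simp)
      (fun w => (p ^ n) ^ (NW D.cs D.h w).ncard)]
    exact Finset.sum_le_sum_of_subset (Finset.filter_subset _ _)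

/-- the number of Sylow `p`-subgroups of a finite reductive group -/
theorem nu_le (h : Fq p ρ F n) (D : Datum p ρ F G) :
    Nat.card (Sylow p (GF F G)) ≤ (p ^ n + 1) ^ (RGD.Pos D.cs D.h).ncard := by
  obtain ⟨y, hy, hF, hq⟩ := D.exists_qs
  exact nu_qs h (D := D.conj hy hF) hq

/-- the same for the connected centraliser of a set of torus elements -/
theorem nu_cen (h : Fq p ρ F n) (D : Datum p ρ F G) {Z : Set Y} (hZ : Z ⊆ D.T) (hF : ∀ a ∈ D.Sz Z, D.g a ∈ D.Sz Z) :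
    Nat.card (Sylow p (GF F (D.cen Z))) ≤ (p ^ n + 1) ^ (RGD.Pos D.cs D.h ∩ D.Sz Z).ncard := by
  have h1 := nu_le h (D.sub hZ hF rfl)
  rwa [← D.io_pos, Set.ncard_image_of_injective _ (D.io_injective Z)]

end Cfsg.Agent.TH.ExT
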