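import Cfsg.Agent.H699.PD.TwDBT

/-!
# S3541, `³D₄(q)` : normalisers of unipotent subgroups (helper57)
-/

set_option autoImplicit false
set_option linter.unusedSectionVars false

namespace Cfsg.Agent.TH.ExT

open CoxeterSystem Cfsg.Agent.ChevalleyStructure.CoxeterGeom Cfsg.Agent.Tits.Roots Cfsg.Agent.Tits.Core
  Cfsg.Agent.Tits.Exchange Cfsg.Agent.Nodes.Reps Cfsg.Agent.Nodes.BNOf Cfsg.Agent.Nodes.StabComb
  Cfsg.Agent.Nodes.Bruhat Cfsg.Agent.Nodes.OppDec Cfsg.Agent.Nodes.LeviDec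
open Cfsg.Lie Cfsg.Agent.ChevalleyStructure
open Cfsg.Agent.Nodes.RGDTwD4

theorem par_num {q i x : ℕ} (hq : 1 < q) (hx : x = q ∨ x = q ^ 3)
    (h : i * (x + 1) * ((q ^ 3 - 1) * (q - 1)) = (q ^ 2 - 1) * (q ^ 6 - 1) * (q ^ 8 + q ^ 4 + 1)) :
    (q + 1) * (q ^ 8 + q ^ 4 + 1) ≤ i := by
  obtain ⟨y, rfl⟩ : ∃ y, q = y + 1 := ⟨q - 1, by omega⟩
  have hy : 0 < y := by omega
  have e1 : (y + 1) ^ 3 - 1 = y * (y ^ 2 + 3 * y + 3) := Nat.sub_eq_of_eq_add (by ring)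
  have e2 : (y + 1) ^ 2 - 1 = y * (y + 2) := Nat.sub_eq_of_eq_add (by ring)
  have e3 : (y + 1) ^ 6 - 1 = y * (y ^ 2 + 3 * y + 3) * ((y + 1) ^ 3 + 1) := Nat.sub_eq_of_eq_add (by ring)
  rw [e1, e2, e3, Nat.add_sub_cancel] at h
  have h1 : x + 1 ≤ (y + 1) ^ 3 + 1 := by
    rcases hx with rfl | rfl
    · exact Nat.succ_le_succ (Nat.le_self_pow (by norm_num) _)
    · exact le_rfl
  refine Nat.le_of_mul_le_mul_right (c := ((y + 1) ^ 3 + 1) * (y * (y ^ 2 + 3 * y + 3) * y)) ?_ (by positivity)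
  calc _ = i * (x + 1) * (y * (y ^ 2 + 3 * y + 3) * y) := by rw [h]; ring
    _ ≤ i * ((y + 1) ^ 3 + 1) * (y * (y ^ 2 + 3 * y + 3) * y) := by gcongr
    _ = _ := by ring

/-- **Borel-Tits** : the normaliser of a non-trivial `p`-subgroup lies in a parabolic subgroup -/
theorem par_le {K : Type} [Field K] [Fintype K] {q : ℕ} (hq : IsPrimePow q) (hK : Fintype.card K = q ^ 3) {p f : ℕ}
    [hp : Fact p.Prime] [CharP K p] (hqf : q = p ^ f) (hf : f ≠ 0) {P : Subgroup ↥(twistedD4 K q)} (hpg : IsPGroup p P)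
    (hne : P ≠ ⊥) : (q + 1) * (q ^ 8 + q ^ 4 + 1) ≤ (Subgroup.normalizer (P : Set ↥(twistedD4 K q))).index := by
  obtain ⟨φ, hφ⟩ := D4Fixed.exists_frob hq hK
  let cs : CoxeterSystem CoxeterMatrix.G₂ CoxeterMatrix.G₂.Group := CoxeterMatrix.G₂.toCoxeterSystem
  have hfin : Finite CoxeterMatrix.G₂.Group := Cfsg.Agent.Nodes.RGDFold.finite_W (hp := Cfsg.Agent.Nodes.RGDTwD4.hp) cs
    isCartan foldData
  have R := Cfsg.Agent.Nodes.RGDTwD4.rgd cs hK hφ p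
  have hG1 : Nodes.RGDLib.G1 cs isCartan (X φ q) = ⊤ := G1_eq_top cs hK hφ
  have hG : GG cs isCartan (T K q) (X φ q) = ⊤ := KFacts.RgdFilt.GG_eq_top hG1
  have hq1 := hq.one_lt
  have hX := H934.RowTwD4.card_X hφ hq1 hK
  have hF := KFacts.RgdFiltTwAll.filt_fold cs isCartan foldData (foldGrp hφ (D4Fixed.twisted_le_fix hK hφ)) p
  obtain ⟨g, J, hJ, -, hN⟩ := KFacts.RgdFilt.borel_tits_of_filt hF hG1 hpg hne
  obtain ⟨i, hi⟩ : ∃ i : Fin 2, J ⊆ {i} := by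
    by_contra hcon
    push Not at hcon
    apply hJ
    rw [Set.eq_univ_iff_forall]
    intro j
    by_contra hj
    obtain ⟨k, hk, hk'⟩ := Set.not_subset.1 (hcon (1 - j))
    apply hk'
    rw [Set.mem_singleton_iff]
    have : k ≠ j := fun h => hj (h ▸ hk)
    fin_cases j <;> fin_cases k <;> first | rfl | exact absurd rfl this
  have hle := hN.trans (cj_mono g (H851.SimsRgd.PJ_mono R hi))
  have hN' := H115.HC.Two.card_PJ R i
  have hT := H69.OutTwD4.card_T hq hK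
  have hpq : p ∣ q := by rw [hqf]; exact dvd_pow_self p hf
  have hsub : ∀ k, k ≠ 0 → ¬ p ∣ q ^ k - 1 := by
    intro k hk h3
    have h4 : p ∣ q ^ k := dvd_pow hpq hk
    have h5 : 1 ≤ q ^ k := Nat.one_le_pow _ _ (by omega)
    have h6 := Nat.dvd_sub h4 h3
    rw [Nat.sub_sub_self h5] at h6
    exact hp.1.one_lt.ne' (Nat.dvd_one.1 h6)
  have hP : ¬ p ∣ (q ^ 2 - 1) * (q ^ 6 - 1) * (q ^ 8 + q ^ 4 + 1) := by
    rw [hp.1.dvd_mul, hp.1.dvd_mul]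
    rintro ((h3 | h3) | h3)
    · exact hsub 2 (by norm_num) h3
    · exact hsub 6 (by norm_num) h3
    · have h4 : p ∣ q ^ 8 + q ^ 4 := dvd_add (dvd_pow hpq (by norm_num)) (dvd_pow hpq (by norm_num))
      exact hp.1.one_lt.ne' (Nat.dvd_one.1 ((Nat.dvd_add_right h4).1 h3))
  have h6 := H35.ExcIdx.index_eq R hG hN' (d := 1) (fun h => hp.1.one_lt.ne' (Nat.dvd_one.1 h))
    (t := (q ^ 3 - 1) * (q - 1)) (by rw [one_mul, hT])
    (P := (q ^ 2 - 1) * (q ^ 6 - 1) * (q ^ 8 + q ^ 4 + 1)) (b := f * 12) (by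
      rw [one_mul, S1067.result hq hK, pow_mul, ← hqf]
      ring) hP
  refine (par_num hq1 ?_ h6).trans ?_
  · rw [hX]
    split_ifs
    · exact Or.inl rfl
    · exact Or.inr rfl
  · refine le_trans (le_of_eq ?_) (Subgroup.index_antitone hle)
    exact (Subgroup.index_map_of_bijective (MulAut.conj g).bijective _).symm

end Cfsg.Agent.TH.ExT
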