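import Cfsg.Agent.TH.ExT.Ab
import Cfsg.Agent.TH.ExT.Mu
import Cfsg.Agent.TH.Fin.Asm2

/-!
# S3541, `³D₄(q)` from the almost simple case (helper57)
-/

set_option autoImplicit false

namespace Cfsg.Agent.TH.ExT

theorem box3D4_si (h : BoxSi) : Box3D4 := box3D4_of boxBN boxAb h boxMu

end Cfsg.Agent.TH.ExT
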