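import Cfsg.Agent.TH.ExT.Sv

/-!
# S3541, `³D₄(q)` : small point stabilisers (helper57)
-/

set_option autoImplicit false
set_option linter.unusedSectionVars false

namespace Cfsg.Agent.TH.ExT

open Subgroup Cfsg Cfsg.Lie Cfsg.Agent.TH.Sv

theorem le_ord {q : ℕ} (h : 2 ≤ q) : q ^ 26 ≤ ord q := by
  have h1 : q ≤ q ^ 2 - 1 := by
    have : 2 * q ≤ q ^ 2 := by rw [sq]; exact Nat.mul_le_mul_right _ h
    omega
  have h2 : q ^ 5 ≤ q ^ 6 - 1 := by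
    have : 2 * q ^ 5 ≤ q ^ 6 := by rw [pow_succ' q 5]; exact Nat.mul_le_mul_right _ h
    have : 0 < q ^ 5 := by positivity
    omega
  calc q ^ 26 = q ^ 12 * q * q ^ 5 * q ^ 8 := by ring
    _ ≤ _ := by unfold ord; gcongr; omega

theorem phi_le {q : ℕ} (h : 2 ≤ q) : 24 * (q ^ 2 + q + 1) ^ 2 ≤ 96 * q ^ 4 := by
  have h1 : q ^ 2 + q + 1 ≤ 2 * q ^ 2 := by nlinarith
  calc _ ≤ 24 * (2 * q ^ 2) ^ 2 := by gcongr
    _ = _ := by ring

theorem phi_lt {q c n : ℕ} (h : n ≤ q) (hc : c * (n + 1) ^ 8 < n ^ 9) : c * (q ^ 2 + q + 1) ^ 4 < q ^ 9 := by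
  have h0 : 0 < n := Nat.pos_of_ne_zero fun e => by simp [e] at hc
  have h1 : n * (q + 1) ≤ (n + 1) * q := by nlinarith
  have h2 : q ^ 2 + q + 1 ≤ (q + 1) ^ 2 := by nlinarith
  have h3 : 0 < q ^ 8 := pow_pos (h0.trans_le h) 8
  refine lt_of_mul_lt_mul_left (a := n ^ 8) ?_ (Nat.zero_le _)
  calc n ^ 8 * (c * (q ^ 2 + q + 1) ^ 4) ≤ n ^ 8 * (c * ((q + 1) ^ 2) ^ 4) := by gcongr
    _ = c * (n * (q + 1)) ^ 8 := by ring
    _ ≤ c * ((n + 1) * q) ^ 8 := by gcongr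
    _ = c * (n + 1) ^ 8 * q ^ 8 := by ring
    _ < n ^ 9 * q ^ 8 := Nat.mul_lt_mul_of_pos_right hc h3
    _ = n ^ 8 * (n * q ^ 8) := by ring
    _ ≤ n ^ 8 * (q * q ^ 8) := by gcongr
    _ = _ := by ring

theorem gcd_four {x g : ℕ} (hx : 1 ≤ x) (h1 : g ∣ x ^ 4 * (x ^ 2 - 1) * (x ^ 6 - 1))
    (h2 : g ∣ x ^ 8 * (x ^ 8 + x ^ 4 + 1) - 1) : g ∣ 4 := by
  have e0 : 1 ≤ x ^ 2 := Nat.one_le_pow _ _ hx
  have e1 : 1 ≤ x ^ 6 := Nat.one_le_pow _ _ hx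
  have e2 : 1 ≤ x ^ 8 * (x ^ 8 + x ^ 4 + 1) := Nat.mul_pos (Nat.one_le_pow _ _ hx) (by omega)
  zify [e0, e1, e2] at h1 h2 ⊢
  have := (h1.mul_left (14 + 16 * x ^ 2 + 22 * x ^ 4 + 24 * x ^ 6 + 16 * x ^ 8 + 20 * x ^ 10 + 10 * x ^ 12 +
    12 * x ^ 14)).add (h2.mul_left (-4 + 14 * x ^ 4 + 2 * x ^ 6 + 2 * x ^ 8 - 12 * x ^ 10))
  exact this.trans (dvd_of_eq (by ring))

variable {G : Type} [Group G] [Finite G] {T H : Subgroup G} {m p f : ℕ} {K : Type} [Field K] [Fintype K]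
  {φ : ↥(twistedD4 K (p ^ f)) →* G}

theorem nu_dvd {X : Type} [Group X] [Finite X] {s j u : ℕ} (hs : s.Prime) (h : Nat.card X ∣ s ^ j * u) :
    Nat.card (Sylow s X) ∣ u := by
  have := Fact.mk hs
  obtain ⟨P⟩ : Nonempty (Sylow s X) := inferInstance
  exact (((Nat.Prime.coprime_iff_not_dvd hs).2 (not_dvd_card_sylow s X)).symm.pow_right j).dvd_of_dvd_mul_left
    (P.card_dvd_index.trans ((index_dvd_card _).trans h))

namespace Cx

variable (c : Cx T H m p f K φ)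

include c

theorem sv (hs : sieveG (parS p f) = true) (ha : Nat.card ↥(H ⊓ T) ≤ 24 * ((p ^ f) ^ 2 + p ^ f + 1) ^ 2) : False := by
  refine false_of_sieveG boxNecX c.as c.half _ hs rfl rfl c.card_T c.dvd_index c.index_dvd c.idx_H
    ((card_dvd_of_le inf_le_right).trans c.card_T.dvd) (one_dvd _) (fun _ _ => c.cls9) (fun _ _ => c.cls9)
    (fun s _ Q h1 h2 h3 => ?_) (fun _ _ _ h => absurd rfl h) (fun _ _ _ h => absurd rfl h) (Nat.ble_eq_true_of_le ha) rfl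
  simp only [parS, Bool.cond_eq_ite, Nat.beq_eq]
  split_ifs with h
  · exact c.par9 h2 (h ▸ h3)
  · exact c.idx5 (not_le_normalizer c.as c.half h1 h2)

/-- the number of Sylow `p`-subgroups of `H ⊓ T` -/
theorem syl (hp : p ∣ Nat.card ↥(H ⊓ T)) : cP (p ^ f) ≤ Nat.card (Sylow p ↥(H ⊓ T)) *
    min (Nat.card (Sylow p ↥(H ⊓ T))) (Nat.gcd (Nat.card ↥(H ⊓ T)) (Nat.card H / m)) := by
  obtain ⟨P, hP⟩ := exists_sub (L := H ⊓ T) c.prime (Nat.ordProj_dvd _ p)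
  exact (c.par (hP.1.trans inf_le_right) (sub.ne_bot c.prime hp hP) (sub.isP hP)).trans
    (syl_bound c.as c.half inf_le_left (c.as.le_normalizer_inf) c.prime c.not_dvd_d hP fun t ht h =>
      le_inf h ((cj_mono t (hP.1.trans inf_le_right)).trans (cj_of_mem ht).le))

theorem syl9 (hp : p ∣ Nat.card ↥(H ⊓ T)) {u : ℕ} (h : Nat.card (Sylow p ↥(H ⊓ T)) ≤ u) : (p ^ f) ^ 9 ≤ u ^ 2 :=
  (pow_le_cP _).trans ((c.syl hp).trans (by rw [sq]; exact Nat.mul_le_mul h ((min_le_left _ _).trans h)))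

theorem small_ss (h5 : 5 ≤ p ^ f) (ha : Nat.card ↥(H ⊓ T) ≤ 24 * ((p ^ f) ^ 2 + p ^ f + 1) ^ 2)
    (hp : ¬ p ∣ Nat.card ↥(H ⊓ T)) : False := by
  have h1 := ha.trans (phi_le c.two_le)
  have h0 : 0 < p ^ f := by omega
  have h2 : 4 * Nat.card ↥(H ⊓ T) ^ 2 ≤ cS (p ^ f) :=
    calc _ ≤ 4 * (96 * (p ^ f) ^ 4) ^ 2 := by gcongr
      _ = (p ^ f) ^ 8 * 36864 := by ring
      _ ≤ _ := Nat.mul_le_mul_left _ (by have := Nat.pow_le_pow_left h5 8; omega)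
  have h3 := (boxLin2 G T H m _ 1 c.as c.half (fun x hx h => c.ss (by omega) hx.2 h fun e =>
    hp (e.trans ((H ⊓ T).orderOf_dvd_natCard hx))) h2 c.gen1).2.2
  have h4 : T.index ≤ 3 * p ^ f := (Nat.le_of_dvd (by have := c.f_pos; omega) c.index_dvd).trans
    (by have := c.f_lt; omega)
  have h6 := le_ord c.two_le
  rw [← c.card_T, ← c.as.card_inf_mul c.half] at h6
  rw [c.as.card_eq_mul c.half] at h3
  have h7 : (p ^ f) ^ 26 ≤ 96 * (p ^ f) ^ 4 * (3 * (96 * (p ^ f) ^ 4 * (3 * p ^ f)) ^ (2 * 1)) :=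
    h6.trans (Nat.mul_le_mul h1 (h3.trans (by gcongr)))
  rw [show 96 * (p ^ f) ^ 4 * (3 * (96 * (p ^ f) ^ 4 * (3 * p ^ f)) ^ (2 * 1)) = 23887872 * (p ^ f) ^ 14 by ring,
    show (p ^ f) ^ 26 = (p ^ f) ^ 12 * (p ^ f) ^ 14 by ring] at h7
  have h8 := Nat.le_of_mul_le_mul_right h7 (pow_pos h0 14)
  have h9 := Nat.pow_le_pow_left h5 12
  omega

/-- small stabilisers, `q ≥ 3` -/
theorem small (h3 : 3 ≤ p ^ f) (ha : Nat.card ↥(H ⊓ T) ≤ 24 * ((p ^ f) ^ 2 + p ^ f + 1) ^ 2)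
    (hp : p ∣ Nat.card ↥(H ⊓ T) → (p = 2 ∧ ∃ u, 0 < u ∧ u ≤ 3 * ((p ^ f) ^ 2 + p ^ f + 1) ^ 2 ∧
      Nat.card ↥(H ⊓ T) ∣ 2 ^ 6 * u) ∨ p = 3 ∨ (p = 7 ∧ Nat.card ↥(H ⊓ T) ≤ 2688)) : False := by
  have hf := c.f_pos
  by_cases h1 : p ∣ Nat.card ↥(H ⊓ T)
  · have h2 : ∀ {j}, Nat.card ↥(H ⊓ T) ≤ p * j → Nat.card (Sylow p ↥(H ⊓ T)) ≤ j := fun h => by
      obtain ⟨u, hu⟩ := h1
      have h4 : 0 < u := Nat.pos_of_mul_pos_left (hu ▸ Nat.card_pos)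
      refine (Nat.le_of_dvd h4 (nu_dvd (j := 1) c.prime (by rw [pow_one, hu]))).trans ?_
      exact Nat.le_of_mul_le_mul_left (hu ▸ h) c.prime.pos
    rcases hp h1 with ⟨rfl, u, h0, h4, h5⟩ | rfl | ⟨rfl, h4⟩
    · by_cases h6 : 4 ≤ f
      · have h7 := c.syl9 h1 ((Nat.le_of_dvd h0 (nu_dvd c.prime h5)).trans h4)
        rw [mul_pow, ← pow_mul _ 2 2] at h7
        exact absurd h7 (not_le.2 (phi_lt (n := 16) (c := 3 ^ 2)
          (Nat.pow_le_pow_right (n := 2) (i := 4) two_pos h6) (by norm_num)))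
      · interval_cases f
        exacts [by omega, c.sv sv4 ha, c.sv sv8 ha]
    · by_cases h6 : 4 ≤ f
      · have h7 := c.syl9 h1 (h2 (j := 8 * ((3 ^ f) ^ 2 + 3 ^ f + 1) ^ 2) (by omega))
        rw [mul_pow, ← pow_mul _ 2 2] at h7
        exact absurd h7 (not_le.2 (phi_lt (n := 81) (c := 8 ^ 2)
          (Nat.pow_le_pow_right (n := 3) (i := 4) three_pos h6) (by norm_num)))
      · interval_cases f
        exacts [c.sv sv3 ha, c.sv sv9 ha, c.sv sv27 ha]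
    · have h7 := c.syl9 h1 (h2 (j := 384) h4)
      have h8 := Nat.pow_le_pow_left (Nat.le_self_pow hf.ne' 7) 9
      omega
  by_cases h5 : 5 ≤ p ^ f
  · exact c.small_ss h5 ha h1
  have h6 : p ≤ 4 := (Nat.le_self_pow hf.ne' p).trans (by omega)
  have h7 := c.f_lt
  have h8 := c.prime
  have h9 : f ≤ 3 := by omega
  interval_cases p <;> first | exact absurd h8 (by decide) | skip
  · interval_cases f
    exacts [by omega, c.sv sv4 ha, by omega]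
  · interval_cases f
    exacts [c.sv sv3 ha, by omega, by omega]

/-- the centraliser of an involution -/
theorem cent_inv (h3 : 3 ≤ p ^ f)
    (ha : Nat.card ↥(H ⊓ T) = (p ^ f) ^ 4 * ((p ^ f) ^ 2 - 1) * ((p ^ f) ^ 6 - 1)) : False := by
  have h0 : 0 < p ^ f := by omega
  have e2 : 1 < (p ^ f) ^ 2 := Nat.one_lt_pow two_ne_zero (by omega)
  have e6 : 1 < (p ^ f) ^ 6 := Nat.one_lt_pow (by norm_num) (by omega)
  have h1 := c.syl (by rw [ha]; exact ((dvd_pow c.p_dvd (by norm_num)).mul_right _).mul_right _)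
  have h2 : Nat.card (Sylow p ↥(H ⊓ T)) ≤ ((p ^ f) ^ 2 - 1) * ((p ^ f) ^ 6 - 1) :=
    Nat.le_of_dvd (Nat.mul_pos (by omega) (by omega)) (nu_dvd (j := f * 4) c.prime (by rw [ha, pow_mul, mul_assoc]))
  have h4 : H.index = (p ^ f) ^ 8 * ((p ^ f) ^ 8 + (p ^ f) ^ 4 + 1) := by
    refine Nat.eq_of_mul_eq_mul_left (Nat.card_pos (α := ↥(H ⊓ T))) ?_
    rw [c.as.card_inf_mul c.half, c.card_T, ha, ord]
    ring
  have h5 : Nat.gcd (Nat.card ↥(H ⊓ T)) (Nat.card H / m) ∣ 4 := gcd_four h0 (ha ▸ Nat.gcd_dvd_left _ _)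
    (h4 ▸ (Nat.gcd_dvd_right _ _).trans c.half.d_dvd)
  have h6 := h1.trans (Nat.mul_le_mul h2 ((min_le_right _ _).trans (Nat.le_of_dvd four_pos h5)))
  have h7 : ((p ^ f) ^ 2 - 1) * ((p ^ f) ^ 6 - 1) ≤ (p ^ f) ^ 8 :=
    (Nat.mul_le_mul (Nat.sub_le _ _) (Nat.sub_le _ _)).trans (le_of_eq (by ring))
  have h8 : 4 * ((p ^ f) ^ 8 + (p ^ f) ^ 4 + 1) ≤ cP (p ^ f) := Nat.mul_le_mul_right _ (by omega)
  omega

end Cx

/-- `q = 2` -/
theorem Cx.two {φ : ↥(twistedD4 K (2 ^ 1)) →* G} (c : Cx T H m 2 1 K φ) (ha : Nat.card ↥(H ⊓ T) ≤ 3024) : False := by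
  have hn := c.as.normal
  have h1 : notIn2 [(1176, 7)] (Nat.card ↥(H ⊓ T)) T.index (Nat.card H / m) = false := by
    rw [← Bool.not_eq_true]
    refine false_of_sieveG boxNecX c.as c.half _ sv2 rfl rfl c.card_T c.dvd_index c.index_dvd
      (c.as.relIndex_eq c.half ▸ c.idx224 (c.as.not_le c.half))
      ((card_dvd_of_le inf_le_right).trans c.card_T.dvd) (one_dvd _) (fun _ _ => c.cls9) (fun _ _ => c.cls9)
      (fun s _ Q h1 h2 h3 => ?_) (fun _ _ _ h => absurd rfl h) (fun _ _ _ h => absurd rfl h) (Nat.ble_eq_true_of_le ha)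
    simp only [par2, Bool.cond_eq_ite, Nat.beq_eq]
    split_ifs with h
    · subst h
      obtain ⟨j, hj⟩ := IsPGroup.iff_card.1 h3
      refine c.par (relIndex_eq_one.1 (Nat.eq_one_of_dvd_coprimes (a := 2 ^ j) (b := 3 * 1)
        (Nat.Coprime.pow_left j (by norm_num)) (hj ▸ relIndex_dvd_card _ _)
        ((relIndex_dvd_index_of_normal _ _).trans c.index_dvd))) h2 h3
    · exact c.idx224 (not_le_normalizer c.as c.half h1 h2)
  obtain ⟨h2, h3⟩ := Prod.mk.inj (List.mem_singleton.1 (mem_of_notIn2 h1))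
  have := Fact.mk Nat.prime_three
  obtain ⟨u, hu⟩ := exists_prime_orderOf_dvd_card' (G := ↥(H ⊓ T)) 3 (by rw [h2]; norm_num)
  rw [← orderOf_coe] at hu
  have h4 : ∀ a ∈ H, ∀ y ∈ H ⊓ T, a * y * a⁻¹ ∈ H ⊓ T := fun a ha y hy =>
    ⟨H.mul_mem (H.mul_mem ha hy.1) (H.inv_mem ha), hn.conj_mem y hy.2 a⟩
  have h5 := boxEl G T H (H ⊓ T) (H ⊓ T) m 3 1 u c.as c.half Nat.prime_three (by rw [h3]; norm_num) inf_le_left h4 le_rfl
    (fun a ha => h4 a ha.1) u.2 (by rw [hu, pow_one])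
  have h6 : (clsIn T H u).ncard ≤ Nat.card ↥(H ⊓ T) := Set.ncard_le_ncard (s := clsIn T H u)
    (t := (H ⊓ T : Subgroup G)) (by
      rintro _ ⟨h4, t, ht, rfl⟩
      exact ⟨h4, hn.conj_mem' _ u.2.2 t⟩) (Set.toFinite _)
  have h7 := (c.ss2 u.2.2 (fun e => by rw [e, orderOf_one] at hu; omega) (by rw [hu]; norm_num)).trans
    (h5.trans (Nat.mul_le_mul (min_le_left _ _) h6))
  rw [h2, h3] at h7
  exact absurd h7 (by norm_num)

end Cfsg.Agent.TH.ExT
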